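import Cfsg.Agent.H64.Ward.Vectors

/-!
# The columns of a group with involution centraliser `2 × L₂(q)` as abstract data

`a` are the three principal columns on the 2-section of `t`, `p` the columns of the discrete
(defect one) part and `z` those of the defect zero part; `k = sgn(Q) |C(t)|² / |G|`.  An `Orbit`
carries the generalised characters `Ind(s ⊗ (1 - λ))` of a torus element.
-/

set_option autoImplicit false
set_option linter.unusedSectionVars false

namespace Cfsg.Agent.H64.Ward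

open Finset

variable {ι : Type*} [Fintype ι]

/-- The functional `v ↦ Σ v(χ) χ(t)² / χ(1)`. -/
def classFn (deg tval v : ι → ℤ) : ℚ := ∑ x, (v x : ℚ) * (tval x : ℚ) ^ 2 / (deg x : ℚ)

/-- A sign change of the characters fixing the trivial one. -/
structure IsSign (one : ι) (s : ι → ℤ) : Prop where
  sq : ∀ x, s x * s x = 1
  one : s one = 1

theorem IsSign.ne_zero {one : ι} {s : ι → ℤ} (hs : IsSign one s) (x : ι) : s x ≠ 0 := by
  intro e; simpa [e] using hs.sq x

theorem IsSign.dot_mul {one : ι} {s : ι → ℤ} (hs : IsSign one s) (u v : ι → ℤ) :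
    dot (s * u) (s * v) = dot u v :=
  sum_congr rfl fun x _ => by simp only [Pi.mul_apply]; linear_combination (u x * v x) * hs.sq x

theorem IsSign.classFn_mul {one : ι} {s : ι → ℤ} (hs : IsSign one s) (d t v : ι → ℤ) :
    classFn (s * d) (s * t) (s * v) = classFn d t v :=
  sum_congr rfl fun x _ => by
    have h : (s x : ℚ) ≠ 0 := by exact_mod_cast hs.ne_zero x
    have h2 : (s x : ℚ) * s x = 1 := by exact_mod_cast hs.sq x
    simp only [Pi.mul_apply, Int.cast_mul, mul_pow, pow_two (s x : ℚ)]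
    rw [h2, one_mul, show (s x : ℚ) * v x * (t x : ℚ) ^ 2 = s x * ((v x : ℚ) * (t x : ℚ) ^ 2) by
      ring, mul_div_mul_left _ _ h]

/-- The columns. -/
structure Cols (ι : Type*) [Fintype ι] (J W : Type*) [Fintype J] [Fintype W] where
  Q : ℤ
  h : ℤ
  hQ : Q = 2 * h + 1
  hh : 5 ≤ h ∨ h ≤ -7
  one : ι
  deg : ι → ℤ
  tval : ι → ℤ
  a : Fin 3 → ι → ℤ
  p : J → ι → ℤ
  z : W → ι → ℤ
  k : ℚ
  deg_ne : ∀ x, deg x ≠ 0
  deg_one : deg one = 1
  a_one : ∀ i, a i one = if i = 0 then 1 else 0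
  p_one : ∀ j, p j one = 0
  z_one : ∀ w, z w one = 0
  a_sq : ∀ i, dot (a i) (a i) = 4
  a_dot : ∀ i i', i ≠ i' → dot (a i) (a i') = 2
  p_sq : ∀ j, dot (p j) (p j) = 4
  p_dot : ∀ j j', j ≠ j' → dot (p j) (p j') = 0
  z_sq : ∀ w, dot (z w) (z w) = 2
  a_p : ∀ i j, dot (a i) (p j) = 0
  a_z : ∀ i w, dot (a i) (z w) = 0
  p_z : ∀ j w, dot (p j) (z w) = 0
  a_deg : ∀ i, dot (a i) deg = 0
  p_deg : ∀ j, dot (p j) deg = 0
  z_deg : ∀ w, dot (z w) deg = 0
  tval_eq : ∀ x, tval x =
    a 0 x + h * (a 1 x + a 2 x) + 2 * h * (∑ j, p j x) + (2 * h + 2) * ∑ w, z w x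
  fun_zero : classFn deg tval (a 0) = ((Q : ℚ) - 1) * k
  fun_a : ∀ i, i ≠ 0 → classFn deg tval (a i) = (3 * (Q : ℚ) - 1) / ((Q : ℚ) + 1) * k
  fun_p : ∀ j, classFn deg tval (p j) = 8 * (Q : ℚ) / ((Q : ℚ) + 1) * k
  fun_z : ∀ w, classFn deg tval (z w) = 0

variable {J W : Type*} [Fintype J] [Fintype W]

/-- The generalised characters attached to one orbit of torus characters. -/
structure Orbit (D : Cols ι J W) where
  idx : Fin 3 → J
  idx_inj : Function.Injective idx
  H : Fin 3 → ι → ℤ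
  H_sq : ∀ j, dot (H j) (H j) = 3
  H_dot : ∀ i j, i ≠ j → dot (H i) (H j) = 2
  H_one : ∀ j, H j D.one = 0
  H_a : ∀ i j, dot (H j) (D.a i) = if i = 0 then 0 else 1
  H_idx : ∀ i j, dot (H j) (D.p (idx i)) = if i = j then 1 else -1
  H_other : ∀ j l, l ∉ Set.range idx → dot (H j) (D.p l) = 0
  H_z : ∀ j w, dot (H j) (D.z w) = 0
  H_deg : ∀ j, dot (H j) D.deg = 0
  H_fun : ∀ j, classFn D.deg D.tval (H j) = 0

namespace Cols

variable (D : Cols ι J W) {s : ι → ℤ} (hs : IsSign D.one s)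

/-- Change of signs. -/
def flip : Cols ι J W where
  Q := D.Q
  h := D.h
  hQ := D.hQ
  hh := D.hh
  one := D.one
  deg := s * D.deg
  tval := s * D.tval
  a i := s * D.a i
  p j := s * D.p j
  z w := s * D.z w
  k := D.k
  deg_ne x := mul_ne_zero (hs.ne_zero x) (D.deg_ne x)
  deg_one := by simp [hs.one, D.deg_one]
  a_one i := by simp [hs.one, D.a_one]
  p_one j := by simp [hs.one, D.p_one]
  z_one w := by simp [hs.one, D.z_one]
  a_sq i := by rw [hs.dot_mul]; exact D.a_sq i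
  a_dot i i' h := by rw [hs.dot_mul]; exact D.a_dot i i' h
  p_sq j := by rw [hs.dot_mul]; exact D.p_sq j
  p_dot j j' h := by rw [hs.dot_mul]; exact D.p_dot j j' h
  z_sq w := by rw [hs.dot_mul]; exact D.z_sq w
  a_p i j := by rw [hs.dot_mul]; exact D.a_p i j
  a_z i w := by rw [hs.dot_mul]; exact D.a_z i w
  p_z j w := by rw [hs.dot_mul]; exact D.p_z j w
  a_deg i := by rw [hs.dot_mul]; exact D.a_deg i
  p_deg j := by rw [hs.dot_mul]; exact D.p_deg j
  z_deg w := by rw [hs.dot_mul]; exact D.z_deg w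
  tval_eq x := by
    simp only [Pi.mul_apply, D.tval_eq x, mul_add, mul_sum]
    simp only [mul_left_comm (s x)]
  fun_zero := by rw [hs.classFn_mul]; exact D.fun_zero
  fun_a i h := by rw [hs.classFn_mul]; exact D.fun_a i h
  fun_p j := by rw [hs.classFn_mul]; exact D.fun_p j
  fun_z w := by rw [hs.classFn_mul]; exact D.fun_z w

end Cols

/-- Change of signs. -/
def Orbit.flip {D : Cols ι J W} (O : Orbit D) {s : ι → ℤ} (hs : IsSign D.one s) :
    Orbit (D.flip hs) where
  idx := O.idx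
  idx_inj := O.idx_inj
  H j := s * O.H j
  H_sq j := by rw [hs.dot_mul]; exact O.H_sq j
  H_dot i j h := by rw [hs.dot_mul]; exact O.H_dot i j h
  H_one j := by simp [Cols.flip, O.H_one]
  H_a i j := by simp only [Cols.flip]; rw [hs.dot_mul]; exact O.H_a i j
  H_idx i j := by simp only [Cols.flip]; rw [hs.dot_mul]; exact O.H_idx i j
  H_other j l h := by simp only [Cols.flip]; rw [hs.dot_mul]; exact O.H_other j l h
  H_z j w := by simp only [Cols.flip]; rw [hs.dot_mul]; exact O.H_z j w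
  H_deg j := by simp only [Cols.flip]; rw [hs.dot_mul]; exact O.H_deg j
  H_fun j := by simp only [Cols.flip]; rw [hs.classFn_mul]; exact O.H_fun j

end Cfsg.Agent.H64.Ward
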