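import Cfsg.Agent.H64.Ward.Seven

/-!
# The four column equations

From the columns and the orbits: either the main case, with the equations consumed by
`H84.Ward.four_eq_finish`, or the pair case, with those consumed by `H22.Ward.no_pair`.
-/

set_option autoImplicit false
set_option linter.unusedSectionVars false

namespace Cfsg.Agent.H64.Ward

open Finset

variable {ι : Type*} [Fintype ι] {J W : Type*} [Fintype J] [Fintype W]

/-- The equations of the main case. -/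
def MainEquations (Q : ℤ) (k : ℚ) (A B B' D y : ℤ) : Prop :=
  A ≠ 0 ∧ y ≠ 0 ∧ D ≠ 0 ∧ A ≠ y ∧ B ≠ 0 ∧ B' ≠ 0 ∧
    1 + A + D + y = 0 ∧ B + B' = 1 + A ∧
    1 + 1 / (A : ℚ) + (Q : ℚ) ^ 2 * (1 / (D : ℚ) + 1 / (y : ℚ)) = ((Q : ℚ) - 1) * k ∧
    (((Q : ℚ) - 1) / 2) ^ 2 * (1 / (B : ℚ) + 1 / (B' : ℚ)) +
      (Q : ℚ) ^ 2 * (1 / (D : ℚ) + 1 / (y : ℚ)) = (3 * (Q : ℚ) - 1) / ((Q : ℚ) + 1) * k ∧
    ((Q : ℚ) - 1) ^ 2 * ((Q : ℚ) + 1) / ((Q : ℚ) * ((A : ℚ) - y)) = k ∧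
    1 - 3 / (A : ℚ) + (Q : ℚ) ^ 2 * (3 / (y : ℚ) - 1 / (D : ℚ)) -
      2 * (((Q : ℚ) - 1) / 2) ^ 2 * (1 / (B : ℚ) + 1 / (B' : ℚ)) +
      12 * ((Q : ℚ) - 1) ^ 2 / ((A : ℚ) - y) = ((Q : ℚ) + 1) * k

/-- The equations of the pair case. -/
def PairEquations (Q h : ℤ) (k : ℚ) (A B B' D y : ℤ) : Prop :=
  A ≠ 0 ∧ y ≠ 0 ∧ D ≠ 0 ∧ B ≠ 0 ∧ B' ≠ 0 ∧
    1 + A + D + y = 0 ∧ B + B' = 1 + A ∧
    1 + 1 / (A : ℚ) + (Q : ℚ) ^ 2 * (1 / (D : ℚ) + 1 / (y : ℚ)) = ((Q : ℚ) - 1) * k ∧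
    (((Q : ℚ) - 1) / 2) ^ 2 * (1 / (B : ℚ) + 1 / (B' : ℚ)) +
      (Q : ℚ) ^ 2 * (1 / (D : ℚ) + 1 / (y : ℚ)) = (3 * (Q : ℚ) - 1) / ((Q : ℚ) + 1) * k ∧
    k * ((Q : ℚ) * (-2 * (B : ℚ))) = ((Q : ℚ) - 1) ^ 2 * ((Q : ℚ) + 1) ∧
    B * B' * (1 + A) - h ^ 2 * A * (1 + A) + 4 * h ^ 2 * (h - 1) * A * B' = 0

/-- The main case in the signed degrees `1, A, B, B', D, y`. -/
def MainCase (Q : ℤ) (k : ℚ) : Prop := ∃ A B B' D y : ℤ, MainEquations Q k A B B' D y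

/-- The pair case: the pair of an orbit consists of two rows of degree `B`. -/
def PairCase (Q h : ℤ) (k : ℚ) : Prop := ∃ A B B' D y : ℤ, PairEquations Q h k A B B' D y

/-- In the pair case `A` is not one. -/
theorem PairEquations.ne_one {Q h : ℤ} {k : ℚ} {A B B' D y : ℤ}
    (hh : 5 ≤ h ∨ h ≤ -7) (e : PairEquations Q h k A B B' D y) : A ≠ 1 := by
  obtain ⟨-, -, -, -, -, -, hBB, -, -, -, hE⟩ := e
  rintro rfl
  obtain ⟨N, hN⟩ : ∃ N, N = 1 + h ^ 2 * (h - 1) := ⟨_, rfl⟩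
  obtain rfl : B = 2 - B' := by linarith
  have hsq : (B' - N) ^ 2 = N ^ 2 - h ^ 2 := by subst hN; linarith
  have h1 : h ^ 2 ≥ 25 := by rcases hh with h' | h' <;> nlinarith
  obtain ⟨M, hM⟩ : ∃ M, (B' - N).natAbs = M := ⟨_, rfl⟩
  have hMsq : (M : ℤ) ^ 2 = N ^ 2 - h ^ 2 := by rw [← hsq, ← hM, Int.natAbs_sq]
  rcases hh with hpos | hneg
  · have hbig : h ^ 2 * 4 ≤ N := by subst hN; nlinarith
    have hM1 : (M : ℤ) ≤ N - 1 := by
      by_contra hc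
      nlinarith [not_le.1 hc]
    nlinarith
  · have hbig : h ^ 2 * 4 ≤ -N := by subst hN; nlinarith
    have hM1 : (M : ℤ) ≤ -N - 1 := by
      by_contra hc
      nlinarith [not_le.1 hc]
    nlinarith

theorem Cols.exists_sign [DecidableEq ι] (D : Cols ι J W) :
    ∃ s, IsSign D.one s ∧ ∀ i x, s x * D.a i x = 0 ∨ s x * D.a i x = 1 := by
  have hb : ∀ i x, D.a i x = 0 ∨ D.a i x = 1 ∨ D.a i x = -1 := fun i x =>
    abs_le_one_of_deg (D.a_sq i).le (D.a_deg i) D.deg_ne x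
  have hagree : ∀ i i' x, D.a i x ≠ 0 → D.a i' x ≠ 0 → D.a i x = D.a i' x := by
    intro i i' x hx hx'
    rcases eq_or_ne i i' with rfl | hne
    · rfl
    have h4 : dot (D.a i - D.a i') (D.a i - D.a i') ≤ 4 := by
      rw [dot_sub_self, D.a_sq, D.a_sq, D.a_dot i i' hne]; norm_num
    have h0 : dot (D.a i - D.a i') D.deg = 0 := by
      have e : dot (D.a i - D.a i') D.deg = dot (D.a i) D.deg - dot (D.a i') D.deg := by
        simp only [dot, Pi.sub_apply, sub_mul, sum_sub_distrib]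
      rw [e, D.a_deg, D.a_deg, sub_zero]
    have := abs_le_one_of_deg h4 h0 D.deg_ne x
    simp only [Pi.sub_apply] at this
    rcases hb i x with e | e | e <;> rcases hb i' x with e' | e' | e' <;> omega
  refine ⟨fun x => if D.a 0 x ≠ 0 then D.a 0 x else if D.a 1 x ≠ 0 then D.a 1 x else
    if D.a 2 x ≠ 0 then D.a 2 x else 1, ⟨fun x => ?_, ?_⟩, fun i x => ?_⟩
  · split_ifs <;> rcases hb 0 x with e | e | e <;> rcases hb 1 x with e' | e' | e' <;>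
      rcases hb 2 x with e'' | e'' | e'' <;> simp_all
  · simp [D.a_one 0]
  · dsimp only
    rcases eq_or_ne (D.a i x) 0 with e | e
    · left; rw [e, mul_zero]
    right
    have hsq : D.a i x * D.a i x = 1 := by rcases hb i x with h | h | h <;> simp_all
    split_ifs with h0 h1 h2
    · rwa [hagree 0 i x h0 e]
    · rwa [hagree 1 i x h1 e]
    · rwa [hagree 2 i x h2 e]
    · exfalso
      push Not at h0 h1 h2
      fin_cases i <;> first | exact e h0 | exact e h1 | exact e h2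

variable [DecidableEq ι]

/-- The two rows of one column cannot have one degree in the pair case. -/
theorem no_equal_pair {h A B : ℤ} (hh : 5 ≤ h ∨ h ≤ -7) (hB : B ≠ 0) (hA : 1 + A = B + B)
    (hE : B * B * (1 + A) - h ^ 2 * A * (1 + A) + 4 * h ^ 2 * (h - 1) * A * B = 0) : False := by
  obtain rfl : A = 2 * B - 1 := by linarith
  have h1 : B * (B ^ 2 - h ^ 2 * (2 * B - 1) * (3 - 2 * h)) = 0 := by linarith
  have h2 : B ^ 2 - h ^ 2 * (2 * B - 1) * (3 - 2 * h) = 0 := (mul_eq_zero.1 h1).resolve_left hB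
  have hd : 2 * B - 1 ∣ 1 :=
    ⟨4 * (h ^ 2 * (3 - 2 * h)) - 2 * B - 1, by linear_combination 4 * h2⟩
  have := Int.natAbs_dvd_natAbs.2 hd
  simp at this
  obtain rfl : B = 1 := by omega
  have h3 : 1 = h ^ 2 * (3 - 2 * h) := by linarith
  have := Int.natAbs_dvd_natAbs.2 (Dvd.intro (h * (3 - 2 * h)) (show h * _ = (1 : ℤ) by linarith))
  simp at this
  omega

namespace Eight

variable {D : Cols ι J W} (E : Eight D)

/-- Exchange of `S` and `T`. -/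
def swapST : Eight D where
  A := E.A
  B := E.B
  B' := E.B'
  C := E.C
  C' := E.C'
  S := E.T
  T := E.S
  neA := E.neA
  neB := E.neB
  neC := E.neC
  neS := E.neS.symm
  suppA := by rw [E.suppA, pair_comm E.S E.T]
  suppB := by rw [E.suppB, pair_comm E.S E.T]
  suppC := by rw [E.suppC, pair_comm E.S E.T]
  nodA := (List.Perm.nodup_iff (((List.Perm.swap _ _ []).cons _).cons _)).1 E.nodA
  nodB := (List.Perm.nodup_iff (((List.Perm.swap _ _ []).cons _).cons _)).1 E.nodB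
  nodC := (List.Perm.nodup_iff (((List.Perm.swap _ _ []).cons _).cons _)).1 E.nodC
  outA := E.outA
  outB := E.outB
  outC := E.outC

/-- Exchange of `B` and `B'`. -/
def swapB : Eight D where
  A := E.A
  B := E.B'
  B' := E.B
  C := E.C
  C' := E.C'
  S := E.S
  T := E.T
  neA := E.neA
  neB := E.neB.symm
  neC := E.neC
  neS := E.neS
  suppA := E.suppA
  suppB := by rw [E.suppB, Finset.insert_comm]
  suppC := E.suppC
  nodA := E.nodA
  nodB := (List.Perm.nodup_iff (List.Perm.swap _ _ _)).1 E.nodB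
  nodC := E.nodC
  outA := E.outA
  outB := ⟨E.outB.2, E.outB.1⟩
  outC := E.outC

/-- Exchange of `C` and `C'`. -/
def swapC : Eight D where
  A := E.A
  B := E.B
  B' := E.B'
  C := E.C'
  C' := E.C
  S := E.S
  T := E.T
  neA := E.neA
  neB := E.neB
  neC := E.neC.symm
  neS := E.neS
  suppA := E.suppA
  suppB := E.suppB
  suppC := by rw [E.suppC, Finset.insert_comm]
  nodA := E.nodA
  nodB := E.nodB
  nodC := (List.Perm.nodup_iff (List.Perm.swap _ _ _)).1 E.nodC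
  outA := E.outA
  outB := E.outB
  outC := ⟨E.outC.2, E.outC.1⟩

/-- The defect zero columns are balanced on the eight rows. -/
def Balanced : Prop :=
  ∀ w, D.z w E.A = 0 ∧ D.z w E.B + D.z w E.B' = 0 ∧ D.z w E.C + D.z w E.C' = 0 ∧
    D.z w E.S + D.z w E.T = 0

theorem mem0 : E.A ∈ supp (D.a 0) ∧ E.S ∈ supp (D.a 0) ∧ E.T ∈ supp (D.a 0) := by
  simp [E.suppA]

theorem mem1 : E.B ∈ supp (D.a 1) ∧ E.B' ∈ supp (D.a 1) ∧ E.S ∈ supp (D.a 1) ∧
    E.T ∈ supp (D.a 1) := by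
  simp [E.suppB]

theorem mem2 : E.C ∈ supp (D.a 2) ∧ E.C' ∈ supp (D.a 2) ∧ E.S ∈ supp (D.a 2) ∧
    E.T ∈ supp (D.a 2) := by
  simp [E.suppC]

variable (N : Normal D)
include N

theorem sum_zero (f : ι → ℚ) :
    ∑ x ∈ supp (D.a 0), f x = f D.one + f E.A + (f E.S + f E.T) := by
  have hn := E.nodA
  simp only [List.nodup_cons, List.mem_cons, not_or, List.not_mem_nil, not_false_iff, and_true,
    List.nodup_nil] at hn
  rw [E.suppA]; simp [hn, add_assoc]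

theorem sum_one (f : ι → ℚ) :
    ∑ x ∈ supp (D.a 1), f x = f E.B + f E.B' + (f E.S + f E.T) := by
  have hn := E.nodB
  simp only [List.nodup_cons, List.mem_cons, not_or, List.not_mem_nil, not_false_iff, and_true,
    List.nodup_nil] at hn
  rw [E.suppB]; simp [hn, add_assoc]

theorem dots (v : ι → ℤ) :
    dot (D.a 0) v = v D.one + v E.A + (v E.S + v E.T) ∧
      dot (D.a 1) v = v E.B + v E.B' + (v E.S + v E.T) ∧
      dot (D.a 2) v = v E.C + v E.C' + (v E.S + v E.T) := by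
  have nA := E.nodA
  have nB := E.nodB
  have nC := E.nodC
  simp only [List.nodup_cons, List.mem_cons, not_or, List.not_mem_nil, not_false_iff, and_true,
    List.nodup_nil] at nA nB nC
  refine ⟨?_, ?_, ?_⟩
  · rw [N.sum_a, E.suppA]; simp [nA, add_assoc]
  · rw [N.sum_a, E.suppB]; simp [nB, add_assoc]
  · rw [N.sum_a, E.suppC]; simp [nC, add_assoc]

/-- The values of the principal columns on the eight rows. -/
theorem vals :
    (D.a 1 E.A = 0 ∧ D.a 2 E.A = 0 ∧ D.a 0 E.A = 1) ∧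
    (D.a 0 E.B = 0 ∧ D.a 1 E.B = 1 ∧ D.a 2 E.B = 0) ∧
    (D.a 0 E.B' = 0 ∧ D.a 1 E.B' = 1 ∧ D.a 2 E.B' = 0) ∧
    (D.a 0 E.C = 0 ∧ D.a 1 E.C = 0 ∧ D.a 2 E.C = 1) ∧
    (D.a 0 E.C' = 0 ∧ D.a 1 E.C' = 0 ∧ D.a 2 E.C' = 1) ∧
    (∀ i, D.a i E.S = 1) ∧ ∀ i, D.a i E.T = 1 := by
  have h1 : ∀ i x, x ∈ supp (D.a i) → D.a i x = 1 := fun i x hx => by rw [N.ind, if_pos hx]
  have h0 : ∀ i x, x ∉ supp (D.a i) → D.a i x = 0 := fun i x hx => by rw [N.ind, if_neg hx]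
  obtain ⟨m00, m01, m02⟩ := E.mem0
  obtain ⟨m10, m11, m12, m13⟩ := E.mem1
  obtain ⟨m20, m21, m22, m23⟩ := E.mem2
  refine ⟨⟨h0 _ _ E.outA.1, h0 _ _ E.outA.2, h1 _ _ m00⟩,
    ⟨h0 _ _ E.outB.1.1, h1 _ _ m10, h0 _ _ E.outB.1.2⟩,
    ⟨h0 _ _ E.outB.2.1, h1 _ _ m11, h0 _ _ E.outB.2.2⟩,
    ⟨h0 _ _ E.outC.1.1, h0 _ _ E.outC.1.2, h1 _ _ m20⟩,
    ⟨h0 _ _ E.outC.2.1, h0 _ _ E.outC.2.2, h1 _ _ m21⟩,
    fun i => h1 _ _ ?_, fun i => h1 _ _ ?_⟩
  · fin_cases i <;> assumption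
  · fin_cases i <;> assumption

/-- The defect zero columns do not distinguish the eight rows. -/
theorem values (hz : E.Balanced) :
    D.tval E.A = 1 ∧ D.tval E.B = D.h ∧ D.tval E.B' = D.h ∧ D.tval E.C = D.h ∧
      D.tval E.C' = D.h ∧ D.tval E.S = D.Q ∧ D.tval E.T = D.Q := by
  obtain ⟨⟨a1A, a2A, a0A⟩, ⟨a0B, a1B, a2B⟩, ⟨a0B', a1B', a2B'⟩, ⟨a0C, a1C, a2C⟩,
    ⟨a0C', a1C', a2C'⟩, aS, aT⟩ := E.vals N
  have hh := D.hh
  obtain ⟨tB, tB'⟩ := pair_value D E.neB (fun w => (hz w).2.1) (r := D.h) (by omega)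
    (by rw [N.tval_row E.mem1.1, a0B, a1B, a2B]; ring)
    (by rw [N.tval_row E.mem1.2.1, a0B', a1B', a2B']; ring)
  obtain ⟨tC, tC'⟩ := pair_value D E.neC (fun w => (hz w).2.2.1) (r := D.h) (by omega)
    (by rw [N.tval_row E.mem2.1, a0C, a1C, a2C]; ring)
    (by rw [N.tval_row E.mem2.2.1, a0C', a1C', a2C']; ring)
  obtain ⟨tS, tT⟩ := pair_value D E.neS (fun w => (hz w).2.2.2) (r := D.Q)
    (by have := D.hQ; omega)
    (by rw [N.tval_row E.mem0.2.1, aS, aS, aS, D.hQ]; ring)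
    (by rw [N.tval_row E.mem0.2.2, aT, aT, aT, D.hQ]; ring)
  refine ⟨?_, tB, tB', tC, tC', tS, tT⟩
  rw [N.tval_row E.mem0.1, a0A, a1A, a2A, sum_eq_zero fun w _ => (hz w).1]; ring

/-- The equations on the first two columns. -/
theorem equations (hz : E.Balanced) :
    1 + D.deg E.A + D.deg E.T + D.deg E.S = 0 ∧
    D.deg E.B + D.deg E.B' = 1 + D.deg E.A ∧
    1 + 1 / (D.deg E.A : ℚ) + (D.Q : ℚ) ^ 2 * (1 / (D.deg E.T : ℚ) + 1 / (D.deg E.S : ℚ)) =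
      ((D.Q : ℚ) - 1) * D.k ∧
    (((D.Q : ℚ) - 1) / 2) ^ 2 * (1 / (D.deg E.B : ℚ) + 1 / (D.deg E.B' : ℚ)) +
      (D.Q : ℚ) ^ 2 * (1 / (D.deg E.T : ℚ) + 1 / (D.deg E.S : ℚ)) =
        (3 * (D.Q : ℚ) - 1) / ((D.Q : ℚ) + 1) * D.k := by
  obtain ⟨tA, tB, tB', -, -, hS, hT⟩ := E.values N hz
  have t1 : D.tval D.one = 1 := by
    rw [N.tval_row ((N.one_mem 0).2 rfl), D.a_one, D.a_one, D.a_one,
      sum_eq_zero fun w _ => D.z_one w]
    simp
  obtain ⟨d0, d1, -⟩ := E.dots N D.deg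
  rw [D.a_deg] at d0 d1
  rw [D.deg_one] at d0
  refine ⟨by linarith, by linarith, ?_, ?_⟩
  · have h := D.fun_zero
    rw [N.classFn_a, E.sum_zero N, t1, tA, hS, hT, D.deg_one] at h
    push_cast at h
    linear_combination h
  · have h := D.fun_a 1 (by decide)
    rw [N.classFn_a, E.sum_one N, tB, tB', hS, hT] at h
    have hQ : (D.Q : ℚ) = 2 * (D.h : ℚ) + 1 := by exact_mod_cast D.hQ
    rw [show ((D.Q : ℚ) - 1) / 2 = D.h by rw [hQ]; ring]
    linear_combination h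

/-- The pair is a row in all three columns and the second row of the first. -/
theorem main_case (P : PairData D) (hσ : P.σP = 1) (hσR : P.σR = -1) (hPS : P.P = E.S)
    (hRA : P.R = E.A) : E.Balanced ∧ MainEquations D.Q D.k (D.deg E.A) (D.deg E.B) (D.deg E.B')
      (D.deg E.T) (D.deg E.S) := by
  have hz : E.Balanced := by
    intro w
    have hr := P.z_rel w
    rw [hσ, hσR, hPS, hRA] at hr
    obtain ⟨d0, d1, d2⟩ := E.dots N (D.z w)
    rw [D.a_z] at d0 d1 d2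
    rw [D.z_one] at d0
    have hn := E.nodA
    simp only [List.nodup_cons, List.mem_cons, not_or, List.not_mem_nil, not_false_iff, and_true,
      List.nodup_nil] at hn
    have hle := sum_sq_le (D.z w) {E.A, E.S, E.T}
    rw [D.z_sq] at hle
    simp [hn] at hle
    have eT : D.z w E.T = -2 * D.z w E.A := by linarith
    have eS : D.z w E.S = D.z w E.A := by linarith
    rw [eT, eS] at hle
    have m0 : D.z w E.A = 0 := by
      by_contra hc
      have := mul_self_pos.2 hc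
      linarith
    exact ⟨m0, by omega, by omega, by omega⟩
  obtain ⟨tA, -, -, -, -, hS, -⟩ := E.values N hz
  obtain ⟨hsum, hBB, e0, e1⟩ := E.equations N hz
  have hdr := P.deg_rel
  rw [hσ, hσR, hPS, hRA] at hdr
  have hX : P.X = D.deg E.A - D.deg E.S := by linarith
  have hne : D.deg E.A ≠ D.deg E.S := fun e => P.X_ne (by rw [hX, e, sub_self])
  have hXq : (P.X : ℚ) = (D.deg E.A : ℚ) - D.deg E.S := by exact_mod_cast hX
  have hh := D.hh
  have hQ : (D.Q : ℚ) = 2 * (D.h : ℚ) + 1 := by exact_mod_cast D.hQ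
  have h2 : (2 * (D.h : ℚ)) = (D.Q : ℚ) - 1 := by linarith
  have hfr := P.fun_rel
  rw [hσ, hσR, hPS, hRA, tA, hS, hXq, h2] at hfr
  push_cast at hfr
  have hk := P.k_eq
  rw [hXq, h2] at hk
  have hX0 : (D.deg E.A : ℚ) - D.deg E.S ≠ 0 := sub_ne_zero.2 (by exact_mod_cast hne)
  have hQ0 : (D.Q : ℚ) ≠ 0 := by exact_mod_cast (by have := D.hQ; omega : D.Q ≠ 0)
  have hQ1 : (D.Q : ℚ) + 1 ≠ 0 := by exact_mod_cast (by have := D.hQ; omega : D.Q + 1 ≠ 0)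
  have hexc : ((D.Q : ℚ) - 1) ^ 2 * ((D.Q : ℚ) + 1) /
      ((D.Q : ℚ) * ((D.deg E.A : ℚ) - D.deg E.S)) = D.k := by
    rw [div_eq_iff (mul_ne_zero hQ0 hX0)]; linear_combination -hk
  refine ⟨hz, D.deg_ne _, D.deg_ne _,
    D.deg_ne _, hne, D.deg_ne _, D.deg_ne _, hsum, hBB, e0, e1, hexc, ?_⟩
  have h8 : ((D.Q : ℚ) - 1) ^ 2 / ((D.deg E.A : ℚ) - D.deg E.S) * 8 =
      8 * (D.Q : ℚ) / ((D.Q : ℚ) + 1) * D.k := by
    rw [← hexc]; field_simp
  have h6 : ((D.Q : ℚ) - 1) * D.k - 2 * ((3 * (D.Q : ℚ) - 1) / ((D.Q : ℚ) + 1) * D.k) +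
      8 * (D.Q : ℚ) / ((D.Q : ℚ) + 1) * D.k = ((D.Q : ℚ) + 1) * D.k := by
    field_simp; ring
  linear_combination e0 - 2 * e1 + h8 + h6 + 4 * hfr

/-- The pair is a row of the second column and one of the third. -/
theorem pair_case (P : PairData D) (hσ : P.σP = 1) (hσR : P.σR = 1) (hPB : P.P = E.B)
    (hRC : P.R = E.C) : E.Balanced ∧ P.X = -2 * D.deg E.B ∧ PairEquations D.Q D.h D.k (D.deg E.A)
      (D.deg E.B) (D.deg E.B') (D.deg E.T) (D.deg E.S) := by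
  have hh := D.hh
  have hz : E.Balanced := by
    intro w
    have hr := P.z_rel w
    rw [hσ, hσR, hPB, hRC] at hr
    obtain ⟨d0, d1, d2⟩ := E.dots N (D.z w)
    rw [D.a_z] at d0 d1 d2
    rw [D.z_one] at d0
    have n1 : E.A ∉ ({E.B, E.B', E.C, E.C'} : Finset ι) := by
      simp only [mem_insert, mem_singleton, not_or]
      exact ⟨fun e => E.outA.1 (e ▸ E.mem1.1), fun e => E.outA.1 (e ▸ E.mem1.2.1),
        fun e => E.outA.2 (e ▸ E.mem2.1), fun e => E.outA.2 (e ▸ E.mem2.2.1)⟩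
    have n2 : E.B ∉ ({E.B', E.C, E.C'} : Finset ι) := by
      simp only [mem_insert, mem_singleton, not_or]
      exact ⟨E.neB, fun e => E.outB.1.2 (e ▸ E.mem2.1), fun e => E.outB.1.2 (e ▸ E.mem2.2.1)⟩
    have n3 : E.B' ∉ ({E.C, E.C'} : Finset ι) := by
      simp only [mem_insert, mem_singleton, not_or]
      exact ⟨fun e => E.outB.2.2 (e ▸ E.mem2.1), fun e => E.outB.2.2 (e ▸ E.mem2.2.1)⟩
    have hle := sum_sq_le (D.z w) {E.A, E.B, E.B', E.C, E.C'}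
    rw [D.z_sq, sum_insert n1, sum_insert n2, sum_insert n3, sum_pair E.neC] at hle
    obtain ⟨m, hm⟩ : ∃ m, D.z w E.B = m := ⟨_, rfl⟩
    obtain ⟨n, hn⟩ : ∃ n, D.z w E.S + D.z w E.T = n := ⟨_, rfl⟩
    rw [show D.z w E.A = -n by linarith, show D.z w E.B' = -m - n by linarith,
      show D.z w E.C = -m by linarith, show D.z w E.C' = m - n by linarith, hm] at hle
    have m0 : m = 0 := by
      by_contra hc
      nlinarith [mul_self_pos.2 hc, mul_self_nonneg n]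
    have n0 : n = 0 := by
      by_contra hc
      nlinarith [mul_self_pos.2 hc, mul_self_nonneg m]
    exact ⟨by omega, by omega, by omega, by omega⟩
  obtain ⟨tA, tB, -, tC, -, -, -⟩ := E.values N hz
  obtain ⟨hsum, hBB, e0, e1⟩ := E.equations N hz
  have hdr := P.deg_rel
  rw [hσ, hσR, hPB, hRC] at hdr
  have hfr := P.fun_rel
  rw [hσ, hσR, hPB, hRC, tB, tC] at hfr
  have hX0 : (P.X : ℚ) ≠ 0 := by exact_mod_cast P.X_ne
  have dB : (D.deg E.B : ℚ) ≠ 0 := by exact_mod_cast D.deg_ne _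
  have dC : (D.deg E.C : ℚ) ≠ 0 := by exact_mod_cast D.deg_ne _
  have dA : (D.deg E.A : ℚ) ≠ 0 := by exact_mod_cast D.deg_ne _
  have dB' : (D.deg E.B' : ℚ) ≠ 0 := by exact_mod_cast D.deg_ne _
  have hXq : (P.X : ℚ) = -(D.deg E.B : ℚ) - D.deg E.C := by
    exact_mod_cast (by linarith : P.X = -D.deg E.B - D.deg E.C)
  push_cast at hfr
  field_simp at hfr
  rw [hXq] at hfr
  have hh0 : (D.h : ℚ) ^ 2 ≠ 0 := pow_ne_zero 2 (by exact_mod_cast (by omega : D.h ≠ 0))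
  have hCB : (D.deg E.C : ℚ) = D.deg E.B := by
    have h4 : (D.h : ℚ) ^ 2 * ((D.deg E.C : ℚ) - D.deg E.B) ^ 2 = 0 := by
      linear_combination -hfr
    exact sub_eq_zero.1 ((pow_eq_zero_iff two_ne_zero).1 ((mul_eq_zero.1 h4).resolve_left hh0))
  have hk := P.k_eq
  rw [hXq, hCB] at hk
  have hQ : (D.Q : ℚ) = 2 * (D.h : ℚ) + 1 := by exact_mod_cast D.hQ
  have hk' : D.k * ((D.Q : ℚ) * (-2 * (D.deg E.B : ℚ))) =
      ((D.Q : ℚ) - 1) ^ 2 * ((D.Q : ℚ) + 1) := by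
    rw [hQ] at hk ⊢; linear_combination hk
  refine ⟨hz, ?_, D.deg_ne _, D.deg_ne _,
    D.deg_ne _, D.deg_ne _, D.deg_ne _, hsum, hBB, e0, e1, hk', ?_⟩
  · have : (P.X : ℚ) = -2 * (D.deg E.B : ℚ) := by rw [hXq, hCB]; ring
    exact_mod_cast this
  have hQ1 : (D.Q : ℚ) + 1 ≠ 0 := by exact_mod_cast (by have := D.hQ; omega : D.Q + 1 ≠ 0)
  have hQ0 : (D.Q : ℚ) ≠ 0 := by exact_mod_cast (by have := D.hQ; omega : D.Q ≠ 0)
  have hd : (((D.Q : ℚ) - 1) / 2) ^ 2 * (1 / (D.deg E.B : ℚ) + 1 / (D.deg E.B' : ℚ)) - 1 -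
      1 / (D.deg E.A : ℚ) = 4 * (D.h : ℚ) ^ 2 * ((D.h : ℚ) - 1) / D.deg E.B := by
    have hk2 : D.k = ((D.Q : ℚ) - 1) ^ 2 * ((D.Q : ℚ) + 1) /
        ((D.Q : ℚ) * (-2 * (D.deg E.B : ℚ))) := by
      rw [eq_div_iff (mul_ne_zero hQ0 (mul_ne_zero (by norm_num) dB))]; exact hk'
    have h7 : (3 * (D.Q : ℚ) - 1) / ((D.Q : ℚ) + 1) * D.k - ((D.Q : ℚ) - 1) * D.k =
        4 * (D.h : ℚ) ^ 2 * ((D.h : ℚ) - 1) / D.deg E.B := by
      rw [hk2, show (D.h : ℚ) = ((D.Q : ℚ) - 1) / 2 by rw [hQ]; ring]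
      field_simp
      ring
    rw [← h7]
    linear_combination e1 - e0
  rw [show ((D.Q : ℚ) - 1) / 2 = (D.h : ℚ) by rw [hQ]; ring] at hd
  field_simp at hd
  have hBBq : (D.deg E.B : ℚ) + D.deg E.B' = 1 + D.deg E.A := by exact_mod_cast hBB
  have : ((D.deg E.B * D.deg E.B' * (1 + D.deg E.A) - D.h ^ 2 * D.deg E.A * (1 + D.deg E.A) +
      4 * D.h ^ 2 * (D.h - 1) * D.deg E.A * D.deg E.B' : ℤ) : ℚ) = 0 := by
    push_cast
    linear_combination -hd + (D.h : ℚ) ^ 2 * (D.deg E.A : ℚ) * hBBq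
  exact_mod_cast this

end Eight

/-- A normalised system with an orbit: the pair of every orbit is of one kind. -/
theorem Normal.classify {D : Cols ι J W} (N : Normal D) (P₀ : PairData D) :
    ∃ E : Eight D, E.Balanced ∧
      (MainEquations D.Q D.k (D.deg E.A) (D.deg E.B) (D.deg E.B') (D.deg E.T) (D.deg E.S) ∨
        (PairEquations D.Q D.h D.k (D.deg E.A) (D.deg E.B) (D.deg E.B') (D.deg E.T)
            (D.deg E.S) ∧
          ∀ P : PairData D, (P.P ≠ E.A ∧ P.P ≠ E.B') ∧ P.R ≠ E.A ∧ P.R ≠ E.B')) := by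
  obtain ⟨k0, -, -, c1, c2⟩ := N.counts
  rcases (by omega :
      (supp (D.a 0) ∩ supp (D.a 1) ∩ supp (D.a 2)).card = 1 ∨
        (supp (D.a 0) ∩ supp (D.a 1) ∩ supp (D.a 2)).card = 2) with hc | hc
  · exfalso
    obtain ⟨P, hσ, -, hopt⟩ := N.options P₀
    rcases hopt with ⟨-, -, hR⟩ | h | h
    · have h2 : ({D.one, P.R} : Finset ι) ⊆ supp (D.a 0) \ (supp (D.a 1) ∪ supp (D.a 2)) := by
        intro x hx
        simp only [mem_insert, mem_singleton] at hx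
        rcases hx with rfl | rfl <;> simp [hR, N.one_mem]
      have := card_le_card h2
      rw [card_pair P.R_ne.symm, ← k0, hc] at this
      omega
    · obtain ⟨S⟩ := N.seven hc
      exact seven_false N S P hσ (Or.inl h)
    · obtain ⟨S⟩ := N.seven hc
      exact seven_false N S P hσ (Or.inr h)
  obtain ⟨E⟩ := N.eight hc
  -- the two possible kinds of pair
  have kind : ∀ P₁ : PairData D,
      (∃ E' : Eight D, E'.Balanced ∧ MainEquations D.Q D.k (D.deg E'.A) (D.deg E'.B)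
        (D.deg E'.B') (D.deg E'.T) (D.deg E'.S)) ∨
      ∃ P : PairData D, (P = P₁ ∨ P = P₁.swap) ∧ P.σP = 1 ∧ P.σR = 1 ∧
        (P.P = E.B ∨ P.P = E.B') ∧ (P.R = E.C ∨ P.R = E.C') := by
    intro P₁
    obtain ⟨P, hσ, hrel, hopt⟩ := N.options P₁
    rcases hopt with ⟨hσR, hP, hR⟩ | ⟨hP, -⟩ | ⟨hσR, hP, hR⟩
    · left
      have hRA : P.R = E.A := by
        have h := (hR 0).2 rfl
        rw [E.suppA] at h
        simp only [mem_insert, mem_singleton] at h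
        rcases h with e | e | e | e
        · exact absurd e P.R_ne
        · exact e
        · exact absurd ((hR 1).1 (e ▸ E.mem1.2.2.1)) (by decide)
        · exact absurd ((hR 1).1 (e ▸ E.mem1.2.2.2)) (by decide)
      have h := hP 0
      rw [E.suppA] at h
      simp only [mem_insert, mem_singleton] at h
      rcases h with e | e | e | e
      · exact absurd e P.P_ne
      · exact absurd (e ▸ hP 1) E.outA.1
      · exact ⟨E, E.main_case N P hσ hσR e hRA⟩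
      · exact ⟨E.swapST, E.swapST.main_case N P hσ hσR e hRA⟩
    · exfalso
      have h := (hP 1).2 (by decide)
      rw [E.suppB] at h
      simp only [mem_insert, mem_singleton] at h
      rcases h with e | e | e | e
      · exact E.outB.1.2 (e ▸ (hP 2).2 (by decide))
      · exact E.outB.2.2 (e ▸ (hP 2).2 (by decide))
      · exact (hP 0).1 (e ▸ E.mem0.2.1) rfl
      · exact (hP 0).1 (e ▸ E.mem0.2.2) rfl
    · right
      refine ⟨P, hrel, hσ, hσR, ?_, ?_⟩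
      · have h := (hP 1).2 rfl
        rw [E.suppB] at h
        simp only [mem_insert, mem_singleton] at h
        rcases h with e | e | e | e
        · exact Or.inl e
        · exact Or.inr e
        · exact absurd ((hP 0).1 (e ▸ E.mem0.2.1)) (by decide)
        · exact absurd ((hP 0).1 (e ▸ E.mem0.2.2)) (by decide)
      · have h := (hR 2).2 rfl
        rw [E.suppC] at h
        simp only [mem_insert, mem_singleton] at h
        rcases h with e | e | e | e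
        · exact Or.inl e
        · exact Or.inr e
        · exact absurd ((hR 0).1 (e ▸ E.mem0.2.1)) (by decide)
        · exact absurd ((hR 0).1 (e ▸ E.mem0.2.2)) (by decide)
  by_cases hmain : ∃ E' : Eight D, E'.Balanced ∧ MainEquations D.Q D.k (D.deg E'.A) (D.deg E'.B)
      (D.deg E'.B') (D.deg E'.T) (D.deg E'.S)
  · obtain ⟨E', hz, hm⟩ := hmain
    exact ⟨E', hz, Or.inl hm⟩
  have all := fun P₁ => (kind P₁).resolve_left hmain
  -- normalise by the first pair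
  obtain ⟨E', hE', hkind, P, hσ, hσR, hPB, hRC⟩ : ∃ E' : Eight D, E'.A = E.A ∧
      ((E'.B = E.B ∧ E'.B' = E.B' ∨ E'.B = E.B' ∧ E'.B' = E.B) ∧
        (E'.C = E.C ∧ E'.C' = E.C' ∨ E'.C = E.C' ∧ E'.C' = E.C)) ∧
      ∃ P : PairData D, P.σP = 1 ∧ P.σR = 1 ∧ P.P = E'.B ∧ P.R = E'.C := by
    obtain ⟨P, -, hσ, hσR, hB, hC⟩ := all P₀
    rcases hB with hB | hB <;> rcases hC with hC | hC
    · exact ⟨E, rfl, ⟨Or.inl ⟨rfl, rfl⟩, Or.inl ⟨rfl, rfl⟩⟩, P, hσ, hσR, hB, hC⟩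
    · exact ⟨E.swapC, rfl, ⟨Or.inl ⟨rfl, rfl⟩, Or.inr ⟨rfl, rfl⟩⟩, P, hσ, hσR, hB, hC⟩
    · exact ⟨E.swapB, rfl, ⟨Or.inr ⟨rfl, rfl⟩, Or.inl ⟨rfl, rfl⟩⟩, P, hσ, hσR, hB, hC⟩
    · exact ⟨E.swapB.swapC, rfl, ⟨Or.inr ⟨rfl, rfl⟩, Or.inr ⟨rfl, rfl⟩⟩, P, hσ, hσR, hB, hC⟩
  obtain ⟨hz, hX, hpe⟩ := E'.pair_case N P hσ hσR hPB hRC
  refine ⟨E', hz, Or.inr ⟨hpe, fun P₁ => ?_⟩⟩
  obtain ⟨P', hrel, hσ', hσR', hB', hC'⟩ := all P₁
  have hB : P'.P = E'.B ∨ P'.P = E'.B' := by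
    rcases hkind.1 with ⟨e1, e2⟩ | ⟨e1, e2⟩ <;> rw [e1, e2] <;> tauto
  have hC : P'.R = E'.C ∨ P'.R = E'.C' := by
    rcases hkind.2 with ⟨e1, e2⟩ | ⟨e1, e2⟩ <;> rw [e1, e2] <;> tauto
  have hPB' : P'.P = E'.B := by
    refine hB.resolve_right fun e => ?_
    obtain ⟨-, hX', -⟩ : E'.swapB.Balanced ∧ P'.X = -2 * D.deg E'.B' ∧ True := by
      rcases hC with c | c
      · exact ⟨(E'.swapB.pair_case N P' hσ' hσR' e c).1,
          (E'.swapB.pair_case N P' hσ' hσR' e c).2.1, trivial⟩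
      · exact ⟨fun w => ⟨((E'.swapB.swapC.pair_case N P' hσ' hσR' e c).1 w).1,
          ((E'.swapB.swapC.pair_case N P' hσ' hσR' e c).1 w).2.1,
          (add_comm _ _).trans ((E'.swapB.swapC.pair_case N P' hσ' hσR' e c).1 w).2.2.1,
          ((E'.swapB.swapC.pair_case N P' hσ' hσR' e c).1 w).2.2.2⟩,
          (E'.swapB.swapC.pair_case N P' hσ' hσR' e c).2.1, trivial⟩
    have hh := D.hh
    have hQ := D.hQ
    have hk := P.k_eq
    have hk' := P'.k_eq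
    rw [← hk] at hk'
    have hk0 : D.k ≠ 0 := by
      intro e0
      rw [e0, zero_mul] at hk
      have h1 : (2 * (D.h : ℚ)) ^ 2 * ((D.Q : ℚ) + 1) ≠ 0 := mul_ne_zero (pow_ne_zero 2
        (mul_ne_zero two_ne_zero (by exact_mod_cast (by omega : D.h ≠ 0))))
        (by exact_mod_cast (by omega : D.Q + 1 ≠ 0))
      exact h1 hk.symm
    have hXX : (P'.X : ℚ) = P.X :=
      mul_left_cancel₀ (by exact_mod_cast (by omega : D.Q ≠ 0)) (mul_left_cancel₀ hk0 hk')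
    have hXX' : P'.X = P.X := by exact_mod_cast hXX
    obtain ⟨hA0, -, -, hB0, -, -, hBB, -, -, -, hE⟩ := hpe
    have hbb : D.deg E'.B' = D.deg E'.B := by linarith
    exact no_equal_pair hh (B := D.deg E'.B) hB0 (by rw [hbb] at hBB; linarith)
      (by rw [hbb] at hE; exact hE)
  have n1 : E'.A ≠ E'.B := fun e => E'.outA.1 (e ▸ E'.mem1.1)
  have n2 : E'.A ≠ E'.C ∧ E'.A ≠ E'.C' :=
    ⟨fun e => E'.outA.2 (e ▸ E'.mem2.1), fun e => E'.outA.2 (e ▸ E'.mem2.2.1)⟩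
  have n3 : E'.B' ≠ E'.C ∧ E'.B' ≠ E'.C' :=
    ⟨fun e => E'.outB.2.2 (e ▸ E'.mem2.1), fun e => E'.outB.2.2 (e ▸ E'.mem2.2.1)⟩
  have h1 : P'.P ≠ E'.A ∧ P'.P ≠ E'.B' := hPB' ▸ ⟨n1.symm, E'.neB⟩
  have h2 : P'.R ≠ E'.A ∧ P'.R ≠ E'.B' := by
    rcases hC with c | c <;> rw [c]
    · exact ⟨n2.1.symm, n3.1.symm⟩
    · exact ⟨n2.2.symm, n3.2.symm⟩
  rcases hrel with rfl | rfl
  · exact ⟨h1, h2⟩
  · exact ⟨h2, h1⟩

theorem Cols.exists_normal (D : Cols ι J W)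
    (hcov : ∀ j, ∃ O : Orbit D, ∃ i, O.idx i = j) :
    ∃ s, ∃ hs : IsSign D.one s, Normal (D.flip hs) := by
  obtain ⟨s, hs, hbin⟩ := D.exists_sign
  exact ⟨s, hs, fun i x => hbin i x, fun j x hx i => by
    obtain ⟨O, l, rfl⟩ := hcov j
    have := O.shape.1 l x (fun e => hx (by simp [Cols.flip, e])) i
    simp [Cols.flip, this]⟩

/-- The two cases with the rows behind them, after a change of signs `s`. -/
theorem Cols.table (D : Cols ι J W) (hJ : Nonempty J)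
    (hcov : ∀ j, ∃ O : Orbit D, ∃ i, O.idx i = j) :
    ∃ s, ∃ hs : IsSign D.one s, Normal (D.flip hs) ∧ ∃ E : Eight (D.flip hs), E.Balanced ∧
      (MainEquations D.Q D.k (s E.A * D.deg E.A) (s E.B * D.deg E.B) (s E.B' * D.deg E.B')
          (s E.T * D.deg E.T) (s E.S * D.deg E.S) ∨
        (PairEquations D.Q D.h D.k (s E.A * D.deg E.A) (s E.B * D.deg E.B)
            (s E.B' * D.deg E.B') (s E.T * D.deg E.T) (s E.S * D.deg E.S) ∧
          ∀ (O : Orbit D) (j : Fin 3), O.H j E.A = 0 ∧ O.H j E.B' = 0)) := by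
  obtain ⟨s, hs, N⟩ := D.exists_normal hcov
  obtain ⟨j⟩ := hJ
  obtain ⟨O, -⟩ := hcov j
  obtain ⟨P₀⟩ := (O.flip hs).shape.2
  obtain ⟨E, hz, h⟩ := N.classify P₀
  refine ⟨s, hs, N, E, hz, h.imp id fun ⟨hp, hall⟩ => ⟨hp, fun O j => ?_⟩⟩
  obtain ⟨P, -, hsupp⟩ := (O.flip hs).shape_supp.2
  obtain ⟨⟨pA, pB⟩, rA, rB⟩ := hall P
  have key : ∀ c i, (D.flip hs).a i c ≠ 0 → P.P ≠ c → P.R ≠ c → O.H j c = 0 := by
    intro c i ha h1 h2
    by_contra hc
    rcases hsupp j c (mul_ne_zero (hs.ne_zero c) hc) with e | e | e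
    · exact h1 e.symm
    · exact h2 e.symm
    · exact ha (e i)
  exact ⟨key _ 0 (mem_supp.1 E.mem0.1) pA rA, key _ 1 (mem_supp.1 E.mem1.2.1) pB rB⟩

/-- The two cases. -/
theorem Cols.main {ι : Type*} [Fintype ι] {J W : Type*} [Fintype J] [Fintype W]
    (D : Cols ι J W) (hJ : Nonempty J)
    (hcov : ∀ j, ∃ O : Orbit D, ∃ i, O.idx i = j) :
    MainCase D.Q D.k ∨ PairCase D.Q D.h D.k := by
  classical
  obtain ⟨s, hs, -, E, -, h | ⟨h, -⟩⟩ := D.table hJ hcov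
  · exact Or.inl ⟨_, _, _, _, _, h⟩
  · exact Or.inr ⟨_, _, _, _, _, h⟩

end Cfsg.Agent.H64.Ward
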