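import Mathlib

/-!
# A quintic without integral roots (seven-row shape of the three columns)
-/

set_option autoImplicit false

namespace Cfsg.Agent.H64.Ward

variable (h U : ℤ)

def qc0 : ℤ :=
  8*h^8 + 24*h^7 - 20*h^6 - 185*h^5 - 345*h^4 - 322*h^3 - 166*h^2 - 45*h - 5
def qc1 : ℤ :=
  16*h^9 + 48*h^8 + 28*h^7 - 164*h^6 - 645*h^5 - 1189*h^4 - 1222*h^3 - 702*h^2 - 209*h - 25
def qc2 : ℤ :=
  -96*h^7 - 384*h^6 - 880*h^5 - 1532*h^4 - 1766*h^3 - 1162*h^2 - 386*h - 50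
def qc3 : ℤ :=
  -64*h^9 - 192*h^8 - 288*h^7 - 416*h^6 - 592*h^5 - 888*h^4 - 1182*h^3 - 934*h^2 - 354*h - 50
def qc4 : ℤ := -64*h^6 - 144*h^5 - 200*h^4 - 344*h^3 - 360*h^2 - 161*h - 25
def qc5 : ℤ := -28*h^3 - 52*h^2 - 29*h - 5

/-- The quintic. -/
def quintic : ℤ :=
  qc0 h + qc1 h * U + qc2 h * U ^ 2 + qc3 h * U ^ 3 + qc4 h * U ^ 4 + qc5 h * U ^ 5

theorem pos_signs (y : ℤ) (hy : 0 ≤ y) :
    0 ≤ qc0 (5 + y) ∧ 0 ≤ qc1 (5 + y) ∧ qc2 (5 + y) ≤ 0 ∧ qc3 (5 + y) ≤ 0 ∧ qc4 (5 + y) ≤ 0 ∧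
      qc5 (5 + y) < 0 ∧ qc0 (5 + y) + qc1 (5 + y) + qc3 (5 + y) < 0 ∧
      qc4 (5 + y) ^ 2 <
        4 * qc5 (5 + y) * (qc3 (5 + y) + qc0 (5 + y) + qc1 (5 + y) - qc2 (5 + y)) := by
  simp only [qc0, qc1, qc2, qc3, qc4, qc5]
  refine ⟨?_, ?_, ?_, ?_, ?_, ?_, ?_, ?_⟩ <;>
    (ring_nf
     nlinarith [pow_nonneg hy 2, pow_nonneg hy 3, pow_nonneg hy 4, pow_nonneg hy 5,
       pow_nonneg hy 6, pow_nonneg hy 7, pow_nonneg hy 8, pow_nonneg hy 9, pow_nonneg hy 10,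
       pow_nonneg hy 11, pow_nonneg hy 12])

theorem neg_signs (y : ℤ) (hy : 0 ≤ y) :
    0 ≤ qc0 (-7 - y) ∧ qc1 (-7 - y) ≤ 0 ∧ 0 ≤ qc2 (-7 - y) ∧ 0 ≤ qc3 (-7 - y) ∧
      qc4 (-7 - y) ≤ 0 ∧ 0 < qc5 (-7 - y) ∧
      qc0 (-7 - y) - qc1 (-7 - y) + qc2 (-7 - y) - qc3 (-7 - y) < 0 ∧
      qc4 (-7 - y) ^ 2 <
        4 * qc5 (-7 - y) * (qc3 (-7 - y) - qc0 (-7 - y) + qc1 (-7 - y) - qc2 (-7 - y)) := by
  simp only [qc0, qc1, qc2, qc3, qc4, qc5]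
  refine ⟨?_, ?_, ?_, ?_, ?_, ?_, ?_, ?_⟩ <;>
    (ring_nf
     nlinarith [pow_nonneg hy 2, pow_nonneg hy 3, pow_nonneg hy 4, pow_nonneg hy 5,
       pow_nonneg hy 6, pow_nonneg hy 7, pow_nonneg hy 8, pow_nonneg hy 9, pow_nonneg hy 10,
       pow_nonneg hy 11, pow_nonneg hy 12])

theorem quintic_ne_zero (hh : 5 ≤ h ∨ h ≤ -7) (hU : U ≠ 0) : quintic h U ≠ 0 := by
  rcases hh with hh | hh
  · obtain ⟨s0, s1, s2, s3, s4, s5, hs, hd⟩ := pos_signs (h - 5) (by omega)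
    rw [show 5 + (h - 5) = h by ring] at s0 s1 s2 s3 s4 s5 hs hd
    unfold quintic
    generalize qc0 h = a0, qc1 h = a1, qc2 h = a2, qc3 h = a3, qc4 h = a4, qc5 h = a5 at *
    rcases lt_or_gt_of_ne hU with hn | hp
    · -- `U ≤ -1`
      obtain ⟨x, hx, rfl⟩ : ∃ x : ℤ, 1 ≤ x ∧ U = -x := ⟨-U, by omega, by ring⟩
      have x2 : x ≤ x ^ 2 := by nlinarith
      have x3 : x ^ 2 ≤ x ^ 3 := pow_le_pow_right₀ hx (by norm_num)
      have hq : a5 * x ^ 2 - a4 * x + (a3 + a0 + a1 - a2) < 0 := by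
        by_contra hc
        push Not at hc
        nlinarith [sq_nonneg (2 * a5 * x - a4)]
      have e1 : 0 ≤ (x ^ 3 - 1) * a0 := mul_nonneg (by linarith) s0
      have e2 : 0 ≤ (x ^ 3 - x) * a1 := mul_nonneg (by linarith) s1
      have e3 : 0 ≤ (x ^ 3 - x ^ 2) * (-a2) := mul_nonneg (by linarith) (by omega)
      have e4 : 0 < x ^ 3 * (-(a5 * x ^ 2 - a4 * x + (a3 + a0 + a1 - a2))) :=
        mul_pos (by positivity) (by omega)
      intro h0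
      nlinarith
    · have U2 : U ≤ U ^ 2 := by nlinarith
      have U3 : U ^ 2 ≤ U ^ 3 := pow_le_pow_right₀ (by omega) (by norm_num)
      have e1 : a1 * U + a0 + a3 * U ^ 3 < 0 := by
        nlinarith [mul_le_mul_of_nonpos_left (show U ≤ U ^ 3 by linarith) s3,
          mul_le_mul_of_nonneg_left (show (1 : ℤ) ≤ U by omega) s0]
      intro h0
      nlinarith [mul_nonneg (sq_nonneg U) (show 0 ≤ -a2 by omega),
        mul_nonneg (show 0 ≤ U ^ 4 by positivity) (show 0 ≤ -a4 by omega),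
        mul_nonneg (show 0 ≤ U ^ 5 by positivity) (show 0 ≤ -a5 by omega)]
  · obtain ⟨s0, s1, s2, s3, s4, s5, hs, hd⟩ := neg_signs (-7 - h) (by omega)
    rw [show -7 - (-7 - h) = h by ring] at s0 s1 s2 s3 s4 s5 hs hd
    unfold quintic
    generalize qc0 h = a0, qc1 h = a1, qc2 h = a2, qc3 h = a3, qc4 h = a4, qc5 h = a5 at *
    rcases lt_or_gt_of_ne hU with hn | hp
    · obtain ⟨x, hx, rfl⟩ : ∃ x : ℤ, 1 ≤ x ∧ U = -x := ⟨-U, by omega, by ring⟩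
      have x2 : x ≤ x ^ 2 := by nlinarith
      have x3 : x ^ 2 ≤ x ^ 3 := pow_le_pow_right₀ hx (by norm_num)
      have e1 : 0 ≤ (x ^ 3 - 1) * a0 := mul_nonneg (by linarith) s0
      have e2 : 0 ≤ (x ^ 3 - x) * (-a1) := mul_nonneg (by linarith) (by omega)
      have e3 : 0 ≤ (x ^ 3 - x ^ 2) * a2 := mul_nonneg (by linarith) s2
      have e4 : 0 < x ^ 3 * (-(a0 - a1 + a2 - a3)) := mul_pos (by positivity) (by omega)
      intro h0
      nlinarith [mul_nonneg (show 0 ≤ x ^ 4 by positivity) (show 0 ≤ -a4 by omega),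
        mul_nonneg (show 0 ≤ x ^ 5 by positivity) s5.le]
    · have U2 : U ≤ U ^ 2 := by nlinarith
      have U3 : U ^ 2 ≤ U ^ 3 := pow_le_pow_right₀ (by omega) (by norm_num)
      have hq : 0 < a5 * U ^ 2 + a4 * U + (a3 - a0 + a1 - a2) := by
        by_contra hc
        push Not at hc
        nlinarith [sq_nonneg (2 * a5 * U + a4)]
      have e1 : 0 ≤ (U ^ 3 - U) * (-a1) := mul_nonneg (by linarith) (by omega)
      have e2 : 0 < U ^ 3 * (a5 * U ^ 2 + a4 * U + (a3 - a0 + a1 - a2)) :=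
        mul_pos (by positivity) hq
      have e3 : 0 ≤ U ^ 3 * a0 := mul_nonneg (by positivity) s0
      have e4 : 0 ≤ U ^ 3 * a2 := mul_nonneg (by positivity) s2
      have e5 : 0 ≤ U ^ 2 * a2 := mul_nonneg (by positivity) s2
      intro h0
      nlinarith

end Cfsg.Agent.H64.Ward
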