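import Mathlib

/-!
# Integral vectors of small norm
-/

set_option autoImplicit false
set_option linter.unusedSectionVars false

namespace Cfsg.Agent.H64.Ward

open Finset

variable {ι : Type*} [Fintype ι]

/-- The standard inner product. -/
def dot (u v : ι → ℤ) : ℤ := ∑ x, u x * v x

theorem dot_comm (u v : ι → ℤ) : dot u v = dot v u := sum_congr rfl fun _ _ => mul_comm _ _

theorem dot_sub_self (u v : ι → ℤ) :
    dot (u - v) (u - v) = dot u u - 2 * dot u v + dot v v := by
  simp only [dot, Pi.sub_apply, mul_sum, ← sum_add_distrib, ← sum_sub_distrib]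
  exact sum_congr rfl fun _ _ => by ring

theorem dot_eq_sum {s : Finset ι} {u v : ι → ℤ} (hu : ∀ x ∉ s, u x = 0) :
    dot u v = ∑ x ∈ s, u x * v x :=
  (sum_subset (subset_univ s) fun x _ hx => by rw [hu x hx, zero_mul]).symm

theorem dot_eq_of_indicator {s : Finset ι} [DecidableEq ι] {u v : ι → ℤ}
    (hu : ∀ x, u x = if x ∈ s then 1 else 0) : dot u v = ∑ x ∈ s, v x := by
  rw [dot_eq_sum (s := s) fun x hx => by rw [hu, if_neg hx]]
  exact sum_congr rfl fun x hx => by rw [hu, if_pos hx, one_mul]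

theorem sum_sq_le (v : ι → ℤ) (s : Finset ι) : ∑ x ∈ s, v x * v x ≤ dot v v :=
  sum_le_univ_sum_of_nonneg fun x => mul_self_nonneg (v x)

theorem eq_zero_of_le {v : ι → ℤ} {s : Finset ι} (h : dot v v ≤ ∑ x ∈ s, v x * v x) :
    ∀ x ∉ s, v x = 0 := by
  classical
  intro x hx
  have h1 := sum_sq_le v (insert x s)
  rw [sum_insert hx] at h1
  exact mul_self_eq_zero.1 (le_antisymm (by omega) (mul_self_nonneg _))

theorem exists_extra {v : ι → ℤ} {s : Finset ι}
    (h : dot v v = ∑ x ∈ s, v x * v x + 1) :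
    ∃ G ∉ s, (v G = 1 ∨ v G = -1) ∧ ∀ x ∉ s, x ≠ G → v x = 0 := by
  classical
  obtain ⟨G, hG, hv⟩ : ∃ G, G ∉ s ∧ v G ≠ 0 := by
    by_contra hc
    push Not at hc
    rw [dot_eq_sum (s := s) hc] at h
    omega
  have h1 := sum_sq_le v (insert G s)
  rw [sum_insert hG] at h1
  have h2 : v G * v G = 1 :=
    le_antisymm (by omega) (by nlinarith [mul_self_pos.2 hv])
  refine ⟨G, hG, mul_self_eq_one_iff.1 h2, fun x hx hne =>
    eq_zero_of_le (s := insert G s) ?_ x (by simp [hne, hx])⟩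
  rw [sum_insert hG]; omega

theorem abs_le_one {v : ι → ℤ} (h : dot v v ≤ 3) (x : ι) : v x = 0 ∨ v x = 1 ∨ v x = -1 := by
  classical
  have h1 := sum_sq_le v {x}
  rw [sum_singleton] at h1
  rcases lt_trichotomy (v x) 0 with hx | hx | hx
  · right; right; nlinarith
  · exact Or.inl hx
  · right; left; nlinarith

theorem abs_le_one_of_deg {v d : ι → ℤ} (h : dot v v ≤ 4) (h0 : dot v d = 0)
    (hd : ∀ x, d x ≠ 0) (x : ι) : v x = 0 ∨ v x = 1 ∨ v x = -1 := by
  classical
  by_contra hc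
  push Not at hc
  obtain ⟨hc0, hc1, hc2⟩ := hc
  have h4 : 4 ≤ v x * v x := by
    rcases (by omega : 2 ≤ v x ∨ v x ≤ -2) with h' | h' <;> nlinarith
  have h1 := sum_sq_le v {x}
  rw [sum_singleton] at h1
  have hz := eq_zero_of_le (v := v) (s := {x}) (by rw [sum_singleton]; omega)
  rw [dot_eq_sum (s := {x}) hz, sum_singleton] at h0
  exact (mul_ne_zero hc0 (hd x)) h0

/-- The support. -/
def supp [DecidableEq ι] (v : ι → ℤ) : Finset ι := univ.filter fun x => v x ≠ 0

theorem mem_supp [DecidableEq ι] {v : ι → ℤ} {x : ι} : x ∈ supp v ↔ v x ≠ 0 := by simp [supp]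

theorem card_supp [DecidableEq ι] {v : ι → ℤ} (hv : ∀ x, v x = 0 ∨ v x = 1 ∨ v x = -1) :
    ((supp v).card : ℤ) = dot v v := by
  rw [dot_eq_sum (s := supp v) fun x hx => by simpa [mem_supp] using hx,
    card_eq_sum_ones, Nat.cast_sum]
  refine sum_congr rfl fun x hx => ?_
  rcases hv x with e | e | e <;> simp [mem_supp, e] at hx ⊢

theorem agree_of_dot_two [DecidableEq ι] {u v : ι → ℤ} (hu : ∀ x, u x = 0 ∨ u x = 1 ∨ u x = -1)
    (hv : ∀ x, v x = 0 ∨ v x = 1 ∨ v x = -1) (hc : ((supp u ∩ supp v).card : ℤ) ≤ 3)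
    (h : dot u v = 2) :
    (supp u ∩ supp v).card = 2 ∧ ∀ x, u x ≠ 0 → v x ≠ 0 → u x = v x := by
  have hd : dot u v = ∑ x ∈ supp u ∩ supp v, u x * v x := by
    refine (sum_subset (subset_univ _) fun x _ hx => ?_).symm
    simp only [mem_inter, mem_supp, not_and_or, not_ne_iff] at hx
    rcases hx with e | e <;> simp [e]
  have key : ∀ x ∈ supp u ∩ supp v, u x * v x = 1 ∨ u x * v x = -1 := by
    intro x hx
    simp only [mem_inter, mem_supp] at hx
    rcases hu x with e | e | e <;> rcases hv x with e' | e' | e' <;> simp_all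
  have hs : ((supp u ∩ supp v).card : ℤ) - ∑ x ∈ supp u ∩ supp v, u x * v x =
      2 * ((supp u ∩ supp v).filter fun x => u x * v x = -1).card := by
    rw [card_eq_sum_ones, card_eq_sum_ones ((supp u ∩ supp v).filter _),
      sum_filter, Nat.cast_sum, Nat.cast_sum, ← sum_sub_distrib, mul_sum]
    refine sum_congr rfl fun x hx => ?_
    rcases key x hx with e | e <;> simp [e]
  rw [← hd, h] at hs
  have h0 : ((supp u ∩ supp v).filter fun x => u x * v x = -1).card = 0 := by omega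
  refine ⟨by omega, fun x hx hy => ?_⟩
  have hne : u x * v x ≠ -1 := fun e =>
    (card_eq_zero.1 h0 ▸ notMem_empty x)
      (mem_filter.2 ⟨mem_inter.2 ⟨mem_supp.2 hx, mem_supp.2 hy⟩, e⟩)
  rcases hu x with e | e | e <;> rcases hv x with e' | e' | e' <;> simp_all

end Cfsg.Agent.H64.Ward
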