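import Cfsg.Agent.H64.Ward.Triple

/-!
# The exceptional part of one orbit
-/

set_option autoImplicit false
set_option linter.unusedSectionVars false

namespace Cfsg.Agent.H64.Ward

open Finset

variable {ι : Type*} [Fintype ι] {J W : Type*} [Fintype J] [Fintype W]

/-- What an orbit says: the columns `p` of the orbit avoid the principal rows, and two characters
`P`, `R` carry the rest of the generalised characters `H`. -/
structure PairData (D : Cols ι J W) where
  P : ι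
  R : ι
  σP : ℤ
  σR : ℤ
  X : ℤ
  sqP : σP * σP = 1
  sqR : σR * σR = 1
  ne : P ≠ R
  X_ne : X ≠ 0
  P_ne : P ≠ D.one
  R_ne : R ≠ D.one
  a_rel : ∀ i, σP * D.a i P + σR * D.a i R = if i = 0 then 0 else 1
  p_rel : ∀ j, σP * D.p j P + σR * D.p j R = 0
  z_rel : ∀ w, σP * D.z w P + σR * D.z w R = 0
  deg_rel : σP * D.deg P + σR * D.deg R + X = 0
  fun_rel : (σP : ℚ) * (D.tval P : ℚ) ^ 2 / D.deg P + (σR : ℚ) * (D.tval R : ℚ) ^ 2 / D.deg R +
    (2 * (D.h : ℚ)) ^ 2 / X = 0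
  k_eq : D.k * ((D.Q : ℚ) * X) = (2 * (D.h : ℚ)) ^ 2 * ((D.Q : ℚ) + 1)

namespace Orbit

variable [DecidableEq ι] {D : Cols ι J W} (O : Orbit D)

theorem no_four {x y e f : ι} (hn : [x, y, e, f].Nodup)
    (h0 : ∀ z, O.H 0 z = if z ∈ ({x, y, e} : Finset ι) then 1 else 0)
    (h1 : ∀ z, O.H 1 z = if z ∈ ({x, y, f} : Finset ι) then 1 else 0)
    (h2 : ∀ z, O.H 2 z = if z ∈ ({x, e, f} : Finset ι) then 1 else 0) : False := by
  simp only [List.nodup_cons, List.mem_cons, not_or, List.not_mem_nil, not_false_iff, and_true,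
    List.nodup_nil] at hn
  obtain ⟨⟨hxy, hxe, hxf⟩, ⟨hye, hyf⟩, hef⟩ := hn
  have hsum : ∀ v : ι → ℤ, dot (O.H 0) v = v x + v y + v e ∧ dot (O.H 1) v = v x + v y + v f ∧
      dot (O.H 2) v = v x + v e + v f := fun v => by
    refine ⟨?_, ?_, ?_⟩
    · rw [dot_eq_of_indicator h0]; simp [hxy, hxe, hye, add_assoc]
    · rw [dot_eq_of_indicator h1]; simp [hxy, hxf, hyf, add_assoc]
    · rw [dot_eq_of_indicator h2]; simp [hxe, hxf, hef, add_assoc]
  set v := D.p (O.idx 0)
  obtain ⟨p0, p1, p2⟩ := hsum v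
  rw [O.H_idx] at p0 p1 p2
  simp at p0 p1 p2
  obtain ⟨q0, q1, q2⟩ := hsum (D.a 1)
  rw [O.H_a] at q0 q1 q2
  simp only [if_neg (by decide : ¬(1 : Fin 3) = 0)] at q0 q1 q2
  have hle := sum_sq_le v ({x, y, e, f} : Finset ι)
  simp only [sum_insert, mem_insert, mem_singleton, hxy, hxe, hxf, hye, hyf, hef, or_self,
    not_false_iff, sum_singleton, D.p_sq, v] at hle
  obtain ⟨c, hc⟩ : ∃ c, v y = c := ⟨_, rfl⟩
  have he : v e = c := by omega
  have hf : v f = c - 2 := by omega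
  have hx : v x = 1 - 2 * c := by omega
  simp only [v] at he hf hx hc
  rw [he, hf, hx, hc] at hle
  have hc1 : c = 1 := by
    rcases (by omega : c ≤ 0 ∨ c = 1 ∨ 2 ≤ c) with h | h | h
    · nlinarith
    · exact h
    · nlinarith
  have hz := eq_zero_of_le (v := v) (s := {x, y, e, f}) (by
    simp only [sum_insert, mem_insert, mem_singleton, hxy, hxe, hxf, hye, hyf, hef, or_self,
      not_false_iff, sum_singleton, D.p_sq, v, he, hf, hx, hc, hc1]
    norm_num)
  have ho : dot v (D.a 1) = 0 := by rw [dot_comm]; exact D.a_p _ _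
  rw [dot_eq_sum (v := D.a 1) hz] at ho
  simp only [sum_insert, mem_insert, mem_singleton, hxy, hxe, hxf, hye, hyf, hef, or_self,
    not_false_iff, sum_singleton, v, he, hf, hx, hc, hc1] at ho
  omega

theorem common {x y : ι} {E : Fin 3 → ι} (hxy : x ≠ y) (hE : Function.Injective E)
    (hEx : ∀ j, E j ≠ x ∧ E j ≠ y)
    (hH : ∀ j z, O.H j z = if z ∈ ({x, y, E j} : Finset ι) then 1 else 0) :
    (∀ i c, D.p (O.idx i) c ≠ 0 → ∀ i', D.a i' c = 0) ∧
      ∃ P : PairData D, P.P = x ∧ P.R = y ∧ P.σP = 1 ∧ P.σR = 1 ∧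
        ∀ i m, D.a i (E m) = 0 := by
  have hdot : ∀ j (v : ι → ℤ), dot (O.H j) v = v x + v y + v (E j) := fun j v => by
    rw [dot_eq_of_indicator (hH j)]
    simp [hxy, (hEx j).1.symm, (hEx j).2.symm, add_assoc]
  have hd1 : E 0 ≠ E 1 := fun e => absurd (hE e) (by decide)
  have hd2 : E 0 ≠ E 2 := fun e => absurd (hE e) (by decide)
  have hd3 : E 1 ≠ E 2 := fun e => absurd (hE e) (by decide)
  let F : Finset ι := {x, y, E 0, E 1, E 2}
  have hFsum : ∀ g : ι → ℤ, ∑ c ∈ F, g c = g x + g y + g (E 0) + g (E 1) + g (E 2) := fun g => by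
    simp [F, hxy, (hEx 0).1.symm, (hEx 1).1.symm, (hEx 2).1.symm, (hEx 0).2.symm, (hEx 1).2.symm,
      (hEx 2).2.symm, hd1, hd2, hd3, add_assoc]
  have hpxy : ∀ i, D.p (O.idx i) x = 0 ∧ D.p (O.idx i) y = 0 := by
    intro i
    have h0 := hdot 0 (D.p (O.idx i))
    have h1 := hdot 1 (D.p (O.idx i))
    have h2 := hdot 2 (D.p (O.idx i))
    rw [O.H_idx] at h0 h1 h2
    have hle := sum_sq_le (D.p (O.idx i)) F
    rw [hFsum, D.p_sq] at hle
    generalize D.p (O.idx i) x = u, D.p (O.idx i) y = v, D.p (O.idx i) (E 0) = e0,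
      D.p (O.idx i) (E 1) = e1, D.p (O.idx i) (E 2) = e2 at *
    have key : u * u + v * v + 3 * (u + v) ^ 2 + 2 * (u + v) ≤ 1 := by
      fin_cases i <;> simp at h0 h1 h2 <;>
        (have e0' : e0 = _ - (u + v) := eq_sub_of_add_eq' h0.symm
         have e1' : e1 = _ - (u + v) := eq_sub_of_add_eq' h1.symm
         have e2' : e2 = _ - (u + v) := eq_sub_of_add_eq' h2.symm
         rw [e0', e1', e2'] at hle
         linarith)
    have hπ : u + v = 0 := by
      rcases (by omega : u + v ≤ -2 ∨ u + v = -1 ∨ u + v = 0 ∨ 1 ≤ u + v) with h | h | h | h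
      · nlinarith
      · obtain rfl : v = -1 - u := by omega
        nlinarith [mul_self_nonneg (2 * u + 1)]
      · exact h
      · nlinarith
    obtain rfl : v = -u := by omega
    rw [hπ] at key
    have : u = 0 := by nlinarith
    omega
  have hpE : ∀ i m, D.p (O.idx i) (E m) = if i = m then 1 else -1 := fun i m => by
    have := hdot m (D.p (O.idx i))
    rw [O.H_idx, (hpxy i).1, (hpxy i).2] at this
    rw [this]; ring
  have hsq : ∀ i, ∑ c ∈ F, D.p (O.idx i) c * D.p (O.idx i) c + 1 = 4 := fun i => by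
    rw [hFsum, (hpxy i).1, (hpxy i).2, hpE, hpE, hpE]
    fin_cases i <;> rfl
  choose G hGF hG1 hG0 using fun i =>
    exists_extra (v := D.p (O.idx i)) (s := F) (by rw [D.p_sq, hsq])
  have hpdot : ∀ i (v : ι → ℤ), dot (D.p (O.idx i)) v =
      D.p (O.idx i) (E 0) * v (E 0) + D.p (O.idx i) (E 1) * v (E 1) +
      D.p (O.idx i) (E 2) * v (E 2) + D.p (O.idx i) (G i) * v (G i) := by
    intro i v
    rw [dot_eq_sum (s := insert (G i) F) fun c hc => by
      simp only [mem_insert, not_or] at hc; exact hG0 i c hc.2 hc.1, sum_insert (hGF i), hFsum,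
      (hpxy i).1, (hpxy i).2]
    ring
  have hG01 : ∀ i i', i ≠ i' →
      G i' = G i ∧ D.p (O.idx i') (G i) = D.p (O.idx i) (G i) := by
    intro i i' hii
    have h := hpdot i (D.p (O.idx i'))
    rw [D.p_dot _ _ (O.idx_inj.ne hii), hpE, hpE, hpE, hpE, hpE, hpE] at h
    have h1 : D.p (O.idx i) (G i) * D.p (O.idx i') (G i) = 1 := by
      fin_cases i <;> fin_cases i' <;> simp at hii h ⊢ <;> linarith
    constructor
    · by_contra hne
      rw [hG0 i' (G i) (hGF i) (Ne.symm hne), mul_zero] at h1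
      exact zero_ne_one h1
    · rcases hG1 i with e | e <;> rw [e] at h1 ⊢ <;> omega
  obtain ⟨Gp, hGp⟩ : ∃ Gp, Gp = G 0 := ⟨_, rfl⟩
  obtain ⟨g, hg⟩ : ∃ g, g = D.p (O.idx 0) Gp := ⟨_, rfl⟩
  have hGi : ∀ i, G i = Gp ∧ D.p (O.idx i) Gp = g := by
    intro i
    rcases eq_or_ne 0 i with rfl | h
    · exact ⟨hGp.symm, hg.symm⟩
    · exact ⟨((hG01 0 i h).1).trans hGp.symm, by rw [hg, hGp]; exact (hG01 0 i h).2⟩
  have hg1 : g * g = 1 := by
    rw [hg, hGp]
    rcases hG1 0 with e | e <;> rw [e] <;> rfl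
  have hGF' : Gp ∉ F := hGp ▸ hGF 0
  -- the degrees
  obtain ⟨X, hX⟩ : ∃ X, X = D.deg (E 0) := ⟨_, rfl⟩
  have hdeg : ∀ m, D.deg (E m) = X := fun m => by
    have h1 := hdot m D.deg
    have h2 := hdot 0 D.deg
    rw [O.H_deg] at h1 h2
    omega
  have hdegG : D.deg Gp = g * X := by
    have h := hpdot 0 D.deg
    rw [D.p_deg, hpE, hpE, hpE, hdeg, hdeg, hdeg, (hGi 0).1, (hGi 0).2] at h
    simp at h
    linear_combination (-g) * h - D.deg Gp * hg1
  have hX0 : X ≠ 0 := hX ▸ D.deg_ne _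
  -- vectors orthogonal to the orbit
  have hgen : ∀ v : ι → ℤ, dot v v ≤ 4 → dot v D.deg = 0 →
      (∀ i, dot (D.p (O.idx i)) v = 0) → ∀ c, (∀ j, dot (O.H j) v = c) →
      (∀ m, v (E m) = 0) ∧ v Gp = 0 ∧ v x + v y = c := by
    intro v hv hvd hvp c hvH
    obtain ⟨α, hα⟩ : ∃ α, α = c - v x - v y := ⟨_, rfl⟩
    have hE' : ∀ m, v (E m) = α := fun m => by
      have := hdot m v; rw [hvH] at this; omega
    have hvG : g * v Gp = α := by
      have h := hpdot 0 v
      rw [hvp, hpE, hpE, hpE, hE', hE', hE', (hGi 0).1, (hGi 0).2] at h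
      simp at h; linarith
    have hG2 : v Gp * v Gp = α * α := by
      rw [← hvG]; linear_combination -(v Gp * v Gp) * hg1
    have hle := sum_sq_le v (insert Gp F)
    rw [sum_insert hGF', hFsum, hG2, hE', hE', hE'] at hle
    rcases eq_or_ne α 0 with h0 | h0
    · subst h0
      exact ⟨hE', mul_self_eq_zero.1 hG2, by omega⟩
    · exfalso
      have hα1 : 1 ≤ α * α := mul_self_pos.2 h0
      have hxx := mul_self_nonneg (v x)
      have hyy := mul_self_nonneg (v y)
      have hx0 : v x = 0 := mul_self_eq_zero.1 (by omega)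
      have hy0 : v y = 0 := mul_self_eq_zero.1 (by omega)
      have hz := eq_zero_of_le (v := v) (s := insert Gp F) (by
        rw [sum_insert hGF', hFsum, hG2, hE', hE', hE', hx0, hy0]; omega)
      rw [dot_eq_sum hz, sum_insert hGF', hFsum, hE', hE', hE', hx0, hy0, hdeg, hdeg, hdeg,
        hdegG] at hvd
      have : 4 * (α * X) = 0 := by linear_combination hvd - X * hvG
      simp [h0, hX0] at this
  have ha : ∀ i, (∀ m, D.a i (E m) = 0) ∧ D.a i Gp = 0 ∧
      D.a i x + D.a i y = if i = 0 then 0 else 1 := fun i =>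
    hgen _ (D.a_sq i).le (D.a_deg i) (fun i' => by rw [dot_comm]; exact D.a_p i _) _
      (fun j => O.H_a i j)
  have hz : ∀ w, (∀ m, D.z w (E m) = 0) ∧ D.z w Gp = 0 ∧ D.z w x + D.z w y = 0 := fun w =>
    hgen _ (by rw [D.z_sq]; norm_num) (D.z_deg w) (fun i => D.p_z _ w) _ (fun j => O.H_z j w)
  have hp : ∀ l, l ∉ Set.range O.idx →
      (∀ m, D.p l (E m) = 0) ∧ D.p l Gp = 0 ∧ D.p l x + D.p l y = 0 := fun l hl =>
    hgen _ (D.p_sq l).le (D.p_deg l) (fun i => D.p_dot _ _ fun e => hl ⟨i, e⟩) _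
      (fun j => O.H_other j l hl)
  classical
  have hsum : ∀ c, (∀ l, l ∉ Set.range O.idx → D.p l c = 0) →
      ∑ j, D.p j c = D.p (O.idx 0) c + D.p (O.idx 1) c + D.p (O.idx 2) c := by
    intro c hc
    rw [← sum_subset (subset_univ (univ.image O.idx)) fun l _ hl => hc l fun ⟨i, hi⟩ =>
      hl (mem_image.2 ⟨i, mem_univ _, hi⟩), sum_image O.idx_inj.injOn, Fin.sum_univ_three]
  have htE : ∀ m, D.tval (E m) = -(2 * D.h) := fun m => by
    rw [D.tval_eq, hsum _ fun l hl => (hp l hl).1 m, sum_eq_zero fun w _ => (hz w).1 m,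
      (ha 0).1, (ha 1).1, (ha 2).1, hpE, hpE, hpE]
    fin_cases m <;> simp
  have htG : D.tval Gp = 2 * D.h * (3 * g) := by
    rw [D.tval_eq, hsum _ fun l hl => (hp l hl).2.1, sum_eq_zero fun w _ => (hz w).2.1,
      (ha 0).2.1, (ha 1).2.1, (ha 2).2.1, (hGi 0).2, (hGi 1).2, (hGi 2).2]
    ring
  refine ⟨fun i c hc i' => ?_, ⟨⟨x, y, 1, 1, X, rfl, rfl, hxy, hX0, ?_, ?_, fun i => by
    simpa using (ha i).2.2, fun j => ?_, fun w => by simpa using (hz w).2.2, ?_, ?_, ?_⟩,
      rfl, rfl, rfl, rfl, fun i => (ha i).1⟩⟩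
  · by_cases hcF : c ∈ F
    · simp only [F, mem_insert, mem_singleton] at hcF
      rcases hcF with rfl | rfl | rfl | rfl | rfl
      · exact absurd (hpxy i).1 hc
      · exact absurd (hpxy i).2 hc
      all_goals exact (ha i').1 _
    · by_cases hcG : c = G i
      · rw [hcG, (hGi i).1]; exact (ha i').2.1
      · exact absurd (hG0 i c hcF hcG) hc
  · intro e
    have h1 := hH 0 x
    rw [if_pos (by simp), e, O.H_one] at h1
    exact zero_ne_one h1
  · intro e
    have h1 := hH 0 y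
    rw [if_pos (by simp), e, O.H_one] at h1
    exact zero_ne_one h1
  · by_cases hj : j ∈ Set.range O.idx
    · obtain ⟨i, rfl⟩ := hj
      simp [(hpxy i).1, (hpxy i).2]
    · simpa using (hp j hj).2.2
  · have := hdot 0 D.deg
    rw [O.H_deg, hdeg] at this
    linarith
  · have h : classFn D.deg D.tval (O.H 0) =
        ∑ c ∈ ({x, y, E 0} : Finset ι), (D.tval c : ℚ) ^ 2 / D.deg c := by
      rw [classFn, ← sum_subset (subset_univ ({x, y, E 0} : Finset ι)) fun c _ hc => by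
        rw [hH 0 c, if_neg hc]; simp]
      exact sum_congr rfl fun c hc => by rw [hH 0 c, if_pos hc]; simp
    rw [O.H_fun, sum_insert (by simp [hxy, (hEx 0).1.symm]), sum_pair (hEx 0).2.symm, htE,
      hdeg] at h
    push_cast at h ⊢
    linear_combination -h
  · have h : classFn D.deg D.tval (D.p (O.idx 0)) = ∑ c ∈ insert Gp F,
        (D.p (O.idx 0) c : ℚ) * (D.tval c : ℚ) ^ 2 / D.deg c := by
      rw [classFn, ← sum_subset (subset_univ (insert Gp F)) fun c _ hc => by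
        simp only [mem_insert, not_or] at hc
        rw [hG0 0 c hc.2 ((hGi 0).1.symm ▸ hc.1)]; simp]
    rw [D.fun_p, sum_insert hGF'] at h
    have hF5 : ∀ g : ι → ℚ, ∑ c ∈ F, g c =
        g x + g y + g (E 0) + g (E 1) + g (E 2) := fun g => by
      simp [F, hxy, (hEx 0).1.symm, (hEx 1).1.symm, (hEx 2).1.symm, (hEx 0).2.symm,
        (hEx 1).2.symm, (hEx 2).2.symm, hd1, hd2, hd3, add_assoc]
    rw [hF5, (hpxy 0).1, (hpxy 0).2, hpE, hpE, hpE, htE, htE, htE, hdeg, hdeg, hdeg, htG, hdegG,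
      (hGi 0).2] at h
    have hXq : (X : ℚ) ≠ 0 := by exact_mod_cast hX0
    have hgq : (g : ℚ) ≠ 0 := by
      intro e; have : g = 0 := by exact_mod_cast e
      rw [this] at hg1; exact zero_ne_one hg1
    have hgq2 : (g : ℚ) * g = 1 := by exact_mod_cast hg1
    have hQ1 : (D.Q : ℚ) + 1 ≠ 0 := by
      have : D.Q + 1 ≠ 0 := by have := D.hQ; have := D.hh; omega
      exact_mod_cast this
    simp at h
    field_simp at h
    linear_combination (1 / 8 : ℚ) * h +
      (9 / 2 : ℚ) * (D.h : ℚ) ^ 2 * ((D.Q : ℚ) + 1) * hgq2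

end Orbit

/-- The consequences of an orbit. -/
theorem Orbit.shape_supp {D : Cols ι J W} (O : Orbit D) :
    (∀ i c, D.p (O.idx i) c ≠ 0 → ∀ i', D.a i' c = 0) ∧
      ∃ P : PairData D, (∀ j, O.H j P.P = P.σP ∧ O.H j P.R = P.σR) ∧
        ∀ j c, O.H j c ≠ 0 → c = P.P ∨ c = P.R ∨ ∀ i, D.a i c = 0 := by
  classical
  obtain ⟨s, hs, h | ⟨x, y, e, f, hn, h0, h1, h2⟩⟩ := triple_shape O.H_sq O.H_dot O.H_one
  swap
  · exact ((O.flip hs).no_four hn h0 h1 h2).elim
  obtain ⟨x, y, E, hxy, hE, hEx, hH⟩ := h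
  obtain ⟨hann, P, hP, hR, hσP, hσR, hEa⟩ := (O.flip hs).common hxy hE hEx hH
  refine ⟨fun i c hc i' => ?_, ?_⟩
  · have := hann i c (mul_ne_zero (hs.ne_zero c) hc) i'
    exact (mul_eq_zero.1 this).resolve_left (hs.ne_zero c)
  · have key : ∀ (d t : ι → ℤ) (c : ι), (((s * t) c : ℤ) : ℚ) ^ 2 / ((s * d) c : ℤ) =
        (s c : ℚ) * (t c : ℚ) ^ 2 / d c := by
      intro d t c
      have h2 : (s c : ℚ) * s c = 1 := by exact_mod_cast hs.sq c
      have h : (s c : ℚ) ≠ 0 := by exact_mod_cast hs.ne_zero c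
      simp only [Pi.mul_apply, Int.cast_mul]
      rw [mul_pow, show (s c : ℚ) ^ 2 = s c * s c by ring, mul_assoc, mul_div_mul_left _ _ h]
    refine ⟨⟨x, y, s x, s y, P.X, hs.sq x, hs.sq y, hxy, P.X_ne,
      hP ▸ P.P_ne, hR ▸ P.R_ne,
      fun i => by simpa [Cols.flip, hP, hR, hσP, hσR] using P.a_rel i,
      fun j => by simpa [Cols.flip, hP, hR, hσP, hσR] using P.p_rel j,
      fun w => by simpa [Cols.flip, hP, hR, hσP, hσR] using P.z_rel w,
      by simpa [Cols.flip, hP, hR, hσP, hσR] using P.deg_rel,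
      by
        have h := P.fun_rel
        simp only [hP, hR, hσP, hσR, Int.cast_one, one_mul, Cols.flip] at h
        rwa [key, key] at h,
      P.k_eq⟩, fun j => ?_, fun j c hc => ?_⟩
    · have hinv : ∀ c, (s * O.H j) c = 1 → O.H j c = s c := fun c h => by
        simp only [Pi.mul_apply] at h
        linear_combination (s c) * h - (O.H j c) * hs.sq c
      exact ⟨hinv x (by rw [hH j x, if_pos (by simp)]),
        hinv y (by rw [hH j y, if_pos (by simp)])⟩
    · have h := hH j c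
      have hne : (s * O.H j) c ≠ 0 := mul_ne_zero (hs.ne_zero c) hc
      rw [h] at hne
      simp only [mem_insert, mem_singleton, ne_eq, ite_eq_right_iff, not_forall] at hne
      obtain ⟨e, -⟩ := hne
      rcases e with e | e | e
      · exact Or.inl e
      · exact Or.inr (Or.inl e)
      · refine Or.inr (Or.inr fun i => ?_)
        have h0 := hEa i j
        simp only [Cols.flip, Pi.mul_apply, mul_eq_zero, hs.ne_zero, false_or] at h0
        rw [e]; exact h0

/-- The consequences of an orbit, without the coefficients of `H`. -/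
theorem Orbit.shape {D : Cols ι J W} (O : Orbit D) :
    (∀ i c, D.p (O.idx i) c ≠ 0 → ∀ i', D.a i' c = 0) ∧ Nonempty (PairData D) :=
  ⟨O.shape_supp.1, let ⟨P, _⟩ := O.shape_supp.2; ⟨P⟩⟩


end Cfsg.Agent.H64.Ward
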