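import Cfsg.Agent.H64.Ward.Exceptional
import Cfsg.Agent.H64.Ward.Quintic

/-!
# The rows of the three principal columns

After a change of signs the three columns are indicators of four-element sets meeting pairwise in
two elements.  With every discrete column in some orbit this leaves the eight-row shape and two
possibilities for the pair of an orbit.
-/

set_option autoImplicit false
set_option linter.unusedSectionVars false

namespace Cfsg.Agent.H64.Ward

open Finset

variable {ι : Type*} [Fintype ι] [DecidableEq ι] {J W : Type*} [Fintype J] [Fintype W]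

/-- Exchange of the two characters of the pair. -/
def PairData.swap {D : Cols ι J W} (P : PairData D) : PairData D where
  P := P.R
  R := P.P
  σP := P.σR
  σR := P.σP
  X := P.X
  sqP := P.sqR
  sqR := P.sqP
  ne := P.ne.symm
  X_ne := P.X_ne
  P_ne := P.R_ne
  R_ne := P.P_ne
  a_rel i := by rw [add_comm]; exact P.a_rel i
  p_rel j := by rw [add_comm]; exact P.p_rel j
  z_rel w := by rw [add_comm]; exact P.z_rel w
  deg_rel := by have := P.deg_rel; linarith
  fun_rel := by have := P.fun_rel; linarith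
  k_eq := P.k_eq

/-- Columns made of zeros and ones, the discrete columns avoiding their rows. -/
structure Normal (D : Cols ι J W) : Prop where
  bin : ∀ i x, D.a i x = 0 ∨ D.a i x = 1
  ann : ∀ j x, D.p j x ≠ 0 → ∀ i, D.a i x = 0

namespace Normal

variable {D : Cols ι J W} (N : Normal D)
include N

theorem ind (i : Fin 3) (x : ι) : D.a i x = if x ∈ supp (D.a i) then 1 else 0 := by
  rcases N.bin i x with e | e <;> simp [mem_supp, e]

theorem card (i : Fin 3) : (supp (D.a i)).card = 4 := by
  have := card_supp (v := D.a i) fun x => by rcases N.bin i x with e | e <;> simp [e]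
  rw [D.a_sq] at this; exact_mod_cast this

theorem card_inter {i i' : Fin 3} (h : i ≠ i') : (supp (D.a i) ∩ supp (D.a i')).card = 2 := by
  have h2 := D.a_dot i i' h
  rw [dot_eq_of_indicator (N.ind i), sum_congr rfl fun x _ => N.ind i' x, sum_ite_mem] at h2
  simp at h2; exact_mod_cast h2

theorem p_eq_zero {i : Fin 3} {x : ι} (hx : x ∈ supp (D.a i)) (j : J) : D.p j x = 0 := by
  by_contra hc
  exact mem_supp.1 hx (N.ann j x hc i)

theorem sum_a (i : Fin 3) (v : ι → ℤ) : dot (D.a i) v = ∑ x ∈ supp (D.a i), v x :=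
  dot_eq_of_indicator (N.ind i)

theorem classFn_a (i : Fin 3) :
    classFn D.deg D.tval (D.a i) = ∑ x ∈ supp (D.a i), (D.tval x : ℚ) ^ 2 / D.deg x := by
  rw [classFn, ← sum_subset (subset_univ (supp (D.a i))) fun x _ hx => by
    rw [N.ind i x, if_neg hx]; simp]
  exact sum_congr rfl fun x hx => by rw [N.ind i x, if_pos hx]; simp

/-- The value at `t` on a principal row. -/
theorem tval_row {i : Fin 3} {x : ι} (hx : x ∈ supp (D.a i)) :
    D.tval x = D.a 0 x + D.h * (D.a 1 x + D.a 2 x) + (2 * D.h + 2) * ∑ w, D.z w x := by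
  rw [D.tval_eq, sum_eq_zero fun j _ => N.p_eq_zero hx j]; ring

end Normal

/-- A column of norm two cannot tell two rows of one kind apart. -/
theorem pair_value (D : Cols ι J W) {x y : ι} (hne : x ≠ y)
    (hz : ∀ w, D.z w x + D.z w y = 0) {r : ℤ} (hr : r ≠ 0)
    (hx : D.tval x = r + (2 * D.h + 2) * ∑ w, D.z w x)
    (hy : D.tval y = r + (2 * D.h + 2) * ∑ w, D.z w y) : D.tval x = r ∧ D.tval y = r := by
  have hsum : ∑ w, D.z w y = -∑ w, D.z w x := by
    rw [← sum_neg_distrib]; exact sum_congr rfl fun w _ => by linarith [hz w]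
  rw [hsum] at hy
  obtain ⟨S, hS⟩ : ∃ S, S = ∑ w, D.z w x := ⟨_, rfl⟩
  rw [← hS] at hx hy
  suffices S = 0 by subst this; constructor <;> linarith
  by_contra hS0
  obtain ⟨w, -, hw⟩ := exists_ne_zero_of_sum_ne_zero (hS ▸ hS0)
  have hyx : D.z w y = -D.z w x := by linarith [hz w]
  have h1 : 1 ≤ D.z w x * D.z w x := mul_self_pos.2 hw
  have hzero := eq_zero_of_le (v := D.z w) (s := {x, y}) (by
    rw [sum_pair hne, D.z_sq, hyx, neg_mul_neg]; linarith)
  have hdeg := D.z_deg w
  rw [dot_eq_sum hzero, sum_pair hne, hyx] at hdeg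
  have hd : D.deg x = D.deg y :=
    mul_left_cancel₀ hw (by linarith)
  have hf := D.fun_z w
  rw [classFn, ← sum_subset (subset_univ ({x, y} : Finset ι)) fun c _ hc => by
    rw [hzero c hc]; simp, sum_pair hne, hx, hy, hyx, hd] at hf
  push_cast at hf
  have hdy : (D.deg y : ℚ) ≠ 0 := by exact_mod_cast D.deg_ne y
  field_simp at hf
  have hzx : (D.z w x : ℚ) ≠ 0 := by exact_mod_cast hw
  have h4 : (D.z w x : ℚ) * (4 * (r : ℚ) * ((2 * (D.h : ℚ) + 2) * S)) = 0 := by
    linear_combination hf
  have h5 : (2 * (D.h : ℚ) + 2) ≠ 0 := by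
    have : 2 * D.h + 2 ≠ 0 := by have := D.hh; omega
    exact_mod_cast this
  have hSq : (S : ℚ) ≠ 0 := by exact_mod_cast hS0
  have hrq : (r : ℚ) ≠ 0 := by exact_mod_cast hr
  simp [hzx, h5, hSq, hrq] at h4

end Cfsg.Agent.H64.Ward
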