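import Cfsg.Agent.H64.Ward.Shapes

/-!
# There is no seven-row shape
-/

set_option autoImplicit false
set_option linter.unusedSectionVars false

namespace Cfsg.Agent.H64.Ward

open Finset

variable {ι : Type*} [Fintype ι] [DecidableEq ι] {J W : Type*} [Fintype J] [Fintype W]

/-- The seven rows: `1`, `B`, `B'` in one column, `U`, `V`, `Z` in two, `T` in all three. -/
structure Seven (D : Cols ι J W) where
  T : ι
  U : ι
  V : ι
  Z : ι
  B : ι
  B' : ι
  suppA : supp (D.a 0) = {D.one, T, U, V}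
  suppB : supp (D.a 1) = {T, U, Z, B}
  suppC : supp (D.a 2) = {T, V, Z, B'}
  nodA : [D.one, T, U, V].Nodup
  nodB : [T, U, Z, B].Nodup
  nodC : [T, V, Z, B'].Nodup
  outU : U ∉ supp (D.a 2)
  outV : V ∉ supp (D.a 1)
  outZ : Z ∉ supp (D.a 0)
  outB : B ∉ supp (D.a 0) ∧ B ∉ supp (D.a 2)
  outB' : B' ∉ supp (D.a 0) ∧ B' ∉ supp (D.a 1)

namespace Normal

variable {D : Cols ι J W} (N : Normal D)
include N

theorem seven (h : (supp (D.a 0) ∩ supp (D.a 1) ∩ supp (D.a 2)).card = 1) :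
    Nonempty (Seven D) := by
  obtain ⟨k0, k1, k2, -, -⟩ := N.counts
  obtain ⟨T, hT⟩ := card_eq_one.1 h
  obtain ⟨B, hB⟩ := card_eq_one.1 (k1.symm.trans h)
  obtain ⟨B', hB'⟩ := card_eq_one.1 (k2.symm.trans h)
  have hu : ∀ {i j l : Fin 3}, i ≠ j →
      supp (D.a i) ∩ supp (D.a j) ∩ supp (D.a l) = {T} →
      ∃ u, u ∈ supp (D.a i) ∧ u ∈ supp (D.a j) ∧ u ∉ supp (D.a l) ∧ u ≠ T := by
    intro i j l hij hijl
    obtain ⟨u, hu⟩ := card_eq_one.1 (show
        ((supp (D.a i) ∩ supp (D.a j)) \ (supp (D.a i) ∩ supp (D.a j) ∩ supp (D.a l))).card = 1 by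
      rw [card_sdiff_of_subset inter_subset_left, N.card_inter hij, hijl, card_singleton])
    have hm := (hu ▸ mem_singleton_self u :
      u ∈ (supp (D.a i) ∩ supp (D.a j)) \ (supp (D.a i) ∩ supp (D.a j) ∩ supp (D.a l)))
    rw [hijl] at hu
    have hm2 : u ≠ T := by
      intro e
      rw [hijl, e] at hm
      simp at hm
    simp only [mem_sdiff, mem_inter] at hm
    exact ⟨u, hm.1.1, hm.1.2, fun hl => hm.2 ⟨hm.1, hl⟩, hm2⟩
  obtain ⟨U, hU0, hU1, hU2, hUT⟩ := hu (show (0 : Fin 3) ≠ 1 by decide) hT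
  obtain ⟨V, hV0, hV2, hV1, hVT⟩ := hu (show (0 : Fin 3) ≠ 2 by decide) (l := 1)
    (by rw [← hT, inter_assoc, inter_assoc, inter_comm (supp (D.a 2))])
  obtain ⟨Z, hZ1, hZ2, hZ0, hZT⟩ := hu (show (1 : Fin 3) ≠ 2 by decide) (l := 0)
    (by rw [← hT, inter_assoc (supp (D.a 0)), inter_comm (supp (D.a 0))])
  have mT : T ∈ supp (D.a 0) ∩ supp (D.a 1) ∩ supp (D.a 2) := hT ▸ by simp
  have mB : B ∈ supp (D.a 1) \ (supp (D.a 0) ∪ supp (D.a 2)) := hB ▸ by simp
  have mB' : B' ∈ supp (D.a 2) \ (supp (D.a 0) ∪ supp (D.a 1)) := hB' ▸ by simp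
  simp only [mem_sdiff, mem_union, not_or] at mB mB'
  simp only [mem_inter] at mT
  have h1 := N.one_mem
  have e1 : D.one ∉ supp (D.a 1) := by simp [h1]
  have e2 : D.one ∉ supp (D.a 2) := by simp [h1]
  have hnA : [D.one, T, U, V].Nodup := by
    simp only [List.nodup_cons, List.mem_cons, not_or, List.not_mem_nil, not_false_iff, and_true,
      List.nodup_nil]
    exact ⟨⟨fun e => e1 (e ▸ mT.1.2), fun e => e1 (e ▸ hU1), fun e => e2 (e ▸ hV2)⟩,
      ⟨hUT.symm, hVT.symm⟩, fun e => hV1 (e ▸ hU1)⟩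
  have hnB : [T, U, Z, B].Nodup := by
    simp only [List.nodup_cons, List.mem_cons, not_or, List.not_mem_nil, not_false_iff, and_true,
      List.nodup_nil]
    exact ⟨⟨hUT.symm, hZT.symm, fun e => mB.2.2 (e ▸ mT.2)⟩,
      ⟨fun e => hU2 (e ▸ hZ2), fun e => mB.2.1 (e ▸ hU0)⟩, fun e => mB.2.2 (e ▸ hZ2)⟩
  have hnC : [T, V, Z, B'].Nodup := by
    simp only [List.nodup_cons, List.mem_cons, not_or, List.not_mem_nil, not_false_iff, and_true,
      List.nodup_nil]
    exact ⟨⟨hVT.symm, hZT.symm, fun e => mB'.2.2 (e ▸ mT.1.2)⟩,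
      ⟨fun e => hV1 (e ▸ hZ1), fun e => mB'.2.1 (e ▸ hV0)⟩, fun e => mB'.2.2 (e ▸ hZ1)⟩
  have four : ∀ {i : Fin 3} {p q r s : ι}, [p, q, r, s].Nodup → p ∈ supp (D.a i) →
      q ∈ supp (D.a i) → r ∈ supp (D.a i) → s ∈ supp (D.a i) →
      supp (D.a i) = {p, q, r, s} := by
    intro i p q r s hn hp hq hr hs
    refine (eq_of_subset_of_card_le (by simp [insert_subset_iff, hp, hq, hr, hs]) ?_).symm
    have := List.toFinset_card_of_nodup hn
    simp at this
    rw [N.card i, this]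
  exact ⟨⟨T, U, V, Z, B, B', four hnA ((h1 0).2 rfl) mT.1.1 hU0 hV0,
    four hnB mT.1.2 hU1 hZ1 mB.1, four hnC mT.2 hV2 hZ2 mB'.1, hnA, hnB, hnC,
    hU2, hV1, hZ0, mB.2, mB'.2⟩⟩

end Normal

theorem seven_false {D : Cols ι J W} (N : Normal D) (S : Seven D) (P : PairData D)
    (hσ : P.σP = 1)
    (hopt : ((∀ i, P.P ∈ supp (D.a i) ↔ i ≠ 0) ∧ ∀ i, P.R ∉ supp (D.a i)) ∨
      (P.σR = 1 ∧ (∀ i, P.P ∈ supp (D.a i) ↔ i = 1) ∧
        ∀ i, P.R ∈ supp (D.a i) ↔ i = 2)) : False := by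
  obtain ⟨T, U, V, Z, B, B', sA, sB, sC, nA, nB, nC, oU, oV, oZ, oB, oB'⟩ := S
  simp only [List.nodup_cons, List.mem_cons, not_or, List.not_mem_nil, not_false_iff, and_true,
    List.nodup_nil] at nA nB nC
  obtain ⟨⟨a1, a2, a3⟩, ⟨a4, a5⟩, a6⟩ := nA
  obtain ⟨⟨b1, b2, b3⟩, ⟨b4, b5⟩, b6⟩ := nB
  obtain ⟨⟨c1, c2, c3⟩, ⟨c4, c5⟩, c6⟩ := nC
  have hsum0 : ∀ v : ι → ℤ, dot (D.a 0) v = v D.one + v T + v U + v V := fun v => by
    rw [N.sum_a, sA]; simp [a1, a2, a3, a4, a5, a6, add_assoc]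
  have hsum1 : ∀ v : ι → ℤ, dot (D.a 1) v = v T + v U + v Z + v B := fun v => by
    rw [N.sum_a, sB]; simp [b1, b2, b3, b4, b5, b6, add_assoc]
  have hsum2 : ∀ v : ι → ℤ, dot (D.a 2) v = v T + v V + v Z + v B' := fun v => by
    rw [N.sum_a, sC]; simp [c1, c2, c3, c4, c5, c6, add_assoc]
  have mem0 : T ∈ supp (D.a 0) ∧ U ∈ supp (D.a 0) ∧ V ∈ supp (D.a 0) := by simp [sA]
  have mem1 : T ∈ supp (D.a 1) ∧ U ∈ supp (D.a 1) ∧ Z ∈ supp (D.a 1) ∧ B ∈ supp (D.a 1) := by
    simp [sB]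
  have mem2 : T ∈ supp (D.a 2) ∧ V ∈ supp (D.a 2) ∧ Z ∈ supp (D.a 2) ∧ B' ∈ supp (D.a 2) := by
    simp [sC]
  have hh := D.hh
  have hval : ∀ i x, x ∈ supp (D.a i) → D.a i x = 1 := fun i x hx => by rw [N.ind, if_pos hx]
  have hval0 : ∀ i x, x ∉ supp (D.a i) → D.a i x = 0 := fun i x hx => by rw [N.ind, if_neg hx]
  have hX : (P.X : ℚ) ≠ 0 := by exact_mod_cast P.X_ne
  have hfr := P.fun_rel
  have hdr := P.deg_rel
  rw [hσ] at hfr hdr
  rcases hopt with ⟨hP, hR⟩ | ⟨hσR, hP, hR⟩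
  · -- the pair `Z`, zero row
    have hPZ : P.P = Z := by
      have h := (hP 1).2 (by decide)
      rw [sB] at h
      simp only [mem_insert, mem_singleton] at h
      rcases h with e | e | e | e
      · exact absurd ((hP 0).1 (e ▸ mem0.1)) (by simp)
      · exact absurd ((hP 0).1 (e ▸ mem0.2.1)) (by simp)
      · exact e
      · exact absurd ((hP 2).2 (by decide)) (e ▸ oB.2)
    have hpR : ∀ j, D.p j P.R = 0 := fun j => by
      have := P.p_rel j
      rw [hσ, hPZ, N.p_eq_zero mem1.2.2.1] at this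
      rcases mul_self_eq_one_iff.1 P.sqR with e | e <;> rw [e] at this <;> linarith
    have hz : ∀ w, D.z w Z = 0 ∧ D.z w P.R = 0 := by
      intro w
      have hr := P.z_rel w
      rw [hσ, one_mul, hPZ] at hr
      rcases eq_or_ne (D.z w Z) 0 with e | e
      · rw [e, zero_add] at hr
        rcases mul_self_eq_one_iff.1 P.sqR with e' | e' <;> rw [e'] at hr <;>
          exact ⟨e, by linarith⟩
      · exfalso
        have hne : Z ≠ P.R := hPZ ▸ P.ne
        have hRR : D.z w P.R * D.z w P.R = D.z w Z * D.z w Z := by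
          rcases mul_self_eq_one_iff.1 P.sqR with e' | e' <;> rw [e'] at hr
          · obtain rfl' : D.z w P.R = -D.z w Z := by linarith
            rw [rfl', neg_mul_neg]
          · obtain rfl' : D.z w P.R = D.z w Z := by linarith
            rw [rfl']
        have h1 := mul_self_pos.2 e
        have hzero := eq_zero_of_le (v := D.z w) (s := {Z, P.R}) (by
          rw [sum_pair hne, D.z_sq, hRR]; omega)
        have h := hsum1 (D.z w)
        rw [D.a_z, hzero T (by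
            simp only [mem_insert, mem_singleton, not_or]
            exact ⟨b2, fun e' => hR 1 (e' ▸ mem1.1)⟩), hzero U (by
            simp only [mem_insert, mem_singleton, not_or]
            exact ⟨b4, fun e' => hR 1 (e' ▸ mem1.2.1)⟩), hzero B (by
            simp only [mem_insert, mem_singleton, not_or]
            exact ⟨b6 ∘ Eq.symm, fun e' => hR 1 (e' ▸ mem1.2.2.2)⟩)] at h
        exact e (by linarith)
    have htR : D.tval P.R = 0 := by
      rw [D.tval_eq, hval0 _ _ (hR 0), hval0 _ _ (hR 1), hval0 _ _ (hR 2),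
        sum_eq_zero fun j _ => hpR j, sum_eq_zero fun w _ => (hz w).2]
      ring
    have htZ : D.tval Z = 2 * D.h := by
      rw [N.tval_row mem1.2.2.1, hval0 _ _ oZ, hval _ _ mem1.2.2.1, hval _ _ mem2.2.2.1,
        sum_eq_zero fun w _ => (hz w).1]
      ring
    rw [htR, hPZ, htZ] at hfr
    rw [hPZ] at hdr
    have hdZ : (D.deg Z : ℚ) ≠ 0 := by exact_mod_cast D.deg_ne Z
    push_cast at hfr
    simp at hfr
    field_simp at hfr
    have h2 : (4 : ℚ) * (D.h : ℚ) ^ 2 * ((D.deg Z : ℚ) + P.X) = 0 := by linear_combination hfr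
    have hh0 : (D.h : ℚ) ≠ 0 := by exact_mod_cast (by omega : D.h ≠ 0)
    have h3 : (D.deg Z : ℚ) + P.X = 0 :=
      (mul_eq_zero.1 h2).resolve_left (mul_ne_zero (by norm_num) (pow_ne_zero 2 hh0))
    have h4 : D.deg Z + P.X = 0 := by exact_mod_cast h3
    have : P.σR * D.deg P.R = 0 := by linarith
    rcases mul_eq_zero.1 this with e | e
    · have := P.sqR; rw [e] at this; exact zero_ne_one this
    · exact D.deg_ne _ e
  · -- the pair `B`, `B'`
    have hPB : P.P = B := by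
      have h := (hP 1).2 rfl
      rw [sB] at h
      simp only [mem_insert, mem_singleton] at h
      rcases h with e | e | e | e
      · exact absurd ((hP 0).1 (e ▸ mem0.1)) (by decide)
      · exact absurd ((hP 0).1 (e ▸ mem0.2.1)) (by decide)
      · exact absurd ((hP 2).1 (e ▸ mem2.2.2.1)) (by decide)
      · exact e
    have hRB : P.R = B' := by
      have h := (hR 2).2 rfl
      rw [sC] at h
      simp only [mem_insert, mem_singleton] at h
      rcases h with e | e | e | e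
      · exact absurd ((hR 0).1 (e ▸ mem0.1)) (by decide)
      · exact absurd ((hR 0).1 (e ▸ mem0.2.2)) (by decide)
      · exact absurd ((hR 1).1 (e ▸ mem1.2.2.1)) (by decide)
      · exact e
    rw [hσR, hPB, hRB] at hfr hdr
    have hne : B ≠ B' := fun e => oB.2 (e ▸ mem2.2.2.2)
    have hz : ∀ w, D.z w T = 0 ∧ D.z w U = 0 ∧ D.z w V = 0 ∧ D.z w Z = 0 ∧ D.z w B = 0 ∧
        D.z w B' = 0 := by
      intro w
      have hr := P.z_rel w
      rw [hσ, hσR, one_mul, one_mul, hPB, hRB] at hr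
      have e0 := hsum0 (D.z w)
      have e1 := hsum1 (D.z w)
      have e2 := hsum2 (D.z w)
      rw [D.a_z] at e0 e1 e2
      rw [D.z_one] at e0
      have hle := sum_sq_le (D.z w) ({T, U, V, Z, B, B'} : Finset ι)
      have n1 : T ≠ B' := c3
      have n2 : U ≠ B' := fun e => oU (e ▸ mem2.2.2.2)
      have n3 : V ≠ B := fun e => oV (e ▸ mem1.2.2.2)
      rw [sum_insert (by simp [a4, a5, b2, b3, n1]), sum_insert (by simp [a6, b4, b5, n2]),
        sum_insert (by simp [c4, n3, c5]), sum_insert (by simp [b6, c6]), sum_pair hne,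
        D.z_sq] at hle
      generalize D.z w T = t, D.z w U = u, D.z w V = v, D.z w Z = zz, D.z w B = b,
        D.z w B' = b' at *
      obtain rfl : b' = -b := by linarith
      have s : u - v = -2 * b := by linarith
      have hb : b = 0 := by nlinarith [mul_self_nonneg (u + v)]
      subst hb
      obtain rfl : v = u := by linarith
      obtain rfl : t = -2 * v := by linarith
      have hv : v = 0 := by nlinarith
      subst hv
      simp at e1 ⊢
      omega
    have tB : D.tval B = D.h := by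
      rw [N.tval_row mem1.2.2.2, hval0 _ _ oB.1, hval0 _ _ oB.2, hval _ _ mem1.2.2.2,
        sum_eq_zero fun w _ => (hz w).2.2.2.2.1]
      ring
    have tB' : D.tval B' = D.h := by
      rw [N.tval_row mem2.2.2.2, hval0 _ _ oB'.1, hval0 _ _ oB'.2, hval _ _ mem2.2.2.2,
        sum_eq_zero fun w _ => (hz w).2.2.2.2.2]
      ring
    have tT : D.tval T = D.Q := by
      rw [N.tval_row mem0.1, hval _ _ mem0.1, hval _ _ mem1.1, hval _ _ mem2.1,
        sum_eq_zero fun w _ => (hz w).1, D.hQ]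
      ring
    have tU : D.tval U = 1 + D.h := by
      rw [N.tval_row mem0.2.1, hval _ _ mem0.2.1, hval _ _ mem1.2.1, hval0 _ _ oU,
        sum_eq_zero fun w _ => (hz w).2.1]
      ring
    have tV : D.tval V = 1 + D.h := by
      rw [N.tval_row mem0.2.2, hval _ _ mem0.2.2, hval0 _ _ oV, hval _ _ mem2.2.1,
        sum_eq_zero fun w _ => (hz w).2.2.1]
      ring
    have tZ : D.tval Z = 2 * D.h := by
      rw [N.tval_row mem1.2.2.1, hval0 _ _ oZ, hval _ _ mem1.2.2.1, hval _ _ mem2.2.2.1,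
        sum_eq_zero fun w _ => (hz w).2.2.2.1]
      ring
    have tone : D.tval D.one = 1 := by
      rw [N.tval_row ((N.one_mem 0).2 rfl), D.a_one, D.a_one, D.a_one,
        sum_eq_zero fun w _ => D.z_one w]
      simp
    have d0 := D.a_deg 0; rw [hsum0, D.deg_one] at d0
    have d1 := D.a_deg 1; rw [hsum1] at d1
    have d2 := D.a_deg 2; rw [hsum2] at d2
    rw [tB, tB'] at hfr
    have qB : (D.deg B : ℚ) ≠ 0 := by exact_mod_cast D.deg_ne B
    have qB' : (D.deg B' : ℚ) ≠ 0 := by exact_mod_cast D.deg_ne B'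
    have hh0 : (D.h : ℚ) ≠ 0 := by exact_mod_cast (by omega : D.h ≠ 0)
    have hXB : (P.X : ℚ) = -((D.deg B : ℚ) + D.deg B') := by
      have : P.X = -(D.deg B + D.deg B') := by linarith
      exact_mod_cast this
    push_cast at hfr
    rw [hXB] at hfr hX
    have qS : (D.deg B : ℚ) + D.deg B' ≠ 0 := fun e => hX (by rw [e, neg_zero])
    have hBB : D.deg B = D.deg B' := by
      field_simp at hfr
      have h2 : (D.h : ℚ) ^ 2 * ((D.deg B : ℚ) - D.deg B') ^ 2 = 0 := by linear_combination hfr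
      have h3 := (mul_eq_zero.1 h2).resolve_left (pow_ne_zero 2 hh0)
      exact_mod_cast sub_eq_zero.1 (pow_eq_zero_iff two_ne_zero |>.1 h3)
    have hUV : D.deg U = D.deg V := by linarith
    have hT : D.deg T = -1 - 2 * D.deg U := by linarith
    have hZ : D.deg Z = -D.deg B + 1 + D.deg U := by linarith
    have hk : D.k * ((D.Q : ℚ) * (D.deg B : ℚ)) = -2 * (D.h : ℚ) ^ 2 * ((D.Q : ℚ) + 1) := by
      have := P.k_eq
      rw [hXB, ← hBB] at this
      linear_combination (-1 / 2 : ℚ) * this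
    have E0 := D.fun_zero
    rw [N.classFn_a, sA, sum_insert (by simp [a1, a2, a3]), sum_insert (by simp [a4, a5]),
      sum_pair a6, tone, tT, tU, tV, D.deg_one, ← hUV] at E0
    have E1 := D.fun_a 1 (by decide)
    rw [N.classFn_a, sB, sum_insert (by simp [b1, b2, b3]), sum_insert (by simp [b4, b5]),
      sum_pair b6, tT, tU, tZ, tB] at E1
    push_cast at E0 E1
    have qU : (D.deg U : ℚ) ≠ 0 := by exact_mod_cast D.deg_ne U
    have qT : (D.deg T : ℚ) ≠ 0 := by exact_mod_cast D.deg_ne T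
    have qZ : (D.deg Z : ℚ) ≠ 0 := by exact_mod_cast D.deg_ne Z
    have qQ : (D.Q : ℚ) + 1 ≠ 0 := by
      exact_mod_cast (by have := D.hQ; omega : D.Q + 1 ≠ 0)
    have hTq : (D.deg T : ℚ) = -1 - 2 * D.deg U := by exact_mod_cast hT
    have hZq : (D.deg Z : ℚ) = -D.deg B + 1 + D.deg U := by exact_mod_cast hZ
    have hQq : (D.Q : ℚ) = 2 * D.h + 1 := by exact_mod_cast D.hQ
    field_simp at E0 E1
    generalize hu : (D.deg U : ℚ) = u, hb : (D.deg B : ℚ) = b, ht : (D.deg T : ℚ) = t,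
      hzz : (D.deg Z : ℚ) = z at E0 E1 hk hTq hZq qU qT qZ qB
    generalize hQ' : (D.Q : ℚ) = q at E0 E1 hk hQq qQ
    -- `b` from the first column
    have hN : b * (q * (t * u + q ^ 2 * u + 2 * (1 + D.h) ^ 2 * t)) =
        -4 * (D.h : ℚ) ^ 3 * (q + 1) * t * u := by
      subst hQq
      linear_combination (2 * (D.h : ℚ) + 1) * b * E0 + (2 * (D.h : ℚ)) * t * u * hk
    have h2 : q * t * u * z * (D.h : ℚ) ^ 2 + q ^ 3 * b * u * z +
        (1 + (D.h : ℚ)) ^ 2 * q * b * t * z + 4 * (D.h : ℚ) ^ 2 * q * b * t * u +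
        (3 * q - 1) * 2 * (D.h : ℚ) ^ 2 * t * u * z = 0 := by
      refine (mul_eq_zero.1 (?_ : (q + 1) * (q * t * u * z * (D.h : ℚ) ^ 2 + q ^ 3 * b * u * z +
        (1 + (D.h : ℚ)) ^ 2 * q * b * t * z + 4 * (D.h : ℚ) ^ 2 * q * b * t * u +
        (3 * q - 1) * 2 * (D.h : ℚ) ^ 2 * t * u * z) = 0)).resolve_left qQ
      linear_combination q * E1 + (3 * q - 1) * t * u * z * hk
    have hq : ((quintic D.h (D.deg U) : ℤ) : ℚ) * (4 * (D.h : ℚ) ^ 2 * t * u * q) = 0 := by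
      subst hTq hZq hQq
      generalize hNg : (-1 - 2 * u) * u + (2 * (D.h : ℚ) + 1) ^ 2 * u +
        2 * (1 + (D.h : ℚ)) ^ 2 * (-1 - 2 * u) = Nv at hN
      have h3 : (((D.h : ℚ) + 1) * ((2 * (D.h : ℚ) + 1) * Nv) ^ 2) *
          ((2 * (D.h : ℚ) + 1) * (-1 - 2 * u) * u * (-b + 1 + u) * (D.h : ℚ) ^ 2 +
            (2 * (D.h : ℚ) + 1) ^ 3 * b * u * (-b + 1 + u) +
            (1 + (D.h : ℚ)) ^ 2 * (2 * (D.h : ℚ) + 1) * b * (-1 - 2 * u) * (-b + 1 + u) +
            4 * (D.h : ℚ) ^ 2 * (2 * (D.h : ℚ) + 1) * b * (-1 - 2 * u) * u +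
            (3 * (2 * (D.h : ℚ) + 1) - 1) * 2 * (D.h : ℚ) ^ 2 * (-1 - 2 * u) * u *
              (-b + 1 + u)) = 0 := by rw [h2, mul_zero]
      obtain ⟨C, hC⟩ : ∃ C, C = b * ((2 * (D.h : ℚ) + 1) * Nv) := ⟨_, rfl⟩
      obtain ⟨M, hM⟩ : ∃ M, M = (2 * (D.h : ℚ) + 1) * Nv := ⟨_, rfl⟩
      have h4 : ((D.h : ℚ) + 1) *
          ((2 * (D.h : ℚ) + 1) * (-1 - 2 * u) * u * (-C + (1 + u) * M) * (D.h : ℚ) ^ 2 * M +
            (2 * (D.h : ℚ) + 1) ^ 3 * C * u * (-C + (1 + u) * M) +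
            (1 + (D.h : ℚ)) ^ 2 * (2 * (D.h : ℚ) + 1) * C * (-1 - 2 * u) * (-C + (1 + u) * M) +
            4 * (D.h : ℚ) ^ 2 * (2 * (D.h : ℚ) + 1) * C * (-1 - 2 * u) * u * M +
            (3 * (2 * (D.h : ℚ) + 1) - 1) * 2 * (D.h : ℚ) ^ 2 * (-1 - 2 * u) * u *
              (-C + (1 + u) * M) * M) = 0 := by
        rw [← h3, hC, hM]; ring
      rw [hN] at hC
      subst hC hM hNg
      rw [← hu] at h4 ⊢
      simp only [quintic, qc0, qc1, qc2, qc3, qc4, qc5]
      push_cast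
      linear_combination -h4
    have hqz : quintic D.h (D.deg U) = 0 := by
      have hne0 : 4 * (D.h : ℚ) ^ 2 * t * u * q ≠ 0 := by
        have : q ≠ 0 := by
          rw [← hQ']
          exact_mod_cast (by have := D.hQ; omega : D.Q ≠ 0)
        simp [hh0, qT, qU, this]
      exact_mod_cast (mul_eq_zero.1 hq).resolve_right hne0
    exact quintic_ne_zero _ _ D.hh (D.deg_ne U) hqz

end Cfsg.Agent.H64.Ward
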