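import Cfsg.Agent.H64.Ward.Rows

/-!
# The two shapes
-/

set_option autoImplicit false
set_option linter.unusedSectionVars false

namespace Cfsg.Agent.H64.Ward

open Finset

variable {ι : Type*} [Fintype ι] [DecidableEq ι] {J W : Type*} [Fintype J] [Fintype W]

namespace Normal

variable {D : Cols ι J W} (N : Normal D)
include N

theorem val_eq (i : Fin 3) (x : ι) :
    (D.a i x = 1 ∧ x ∈ supp (D.a i)) ∨ (D.a i x = 0 ∧ x ∉ supp (D.a i)) := by
  rcases N.bin i x with e | e <;> simp [mem_supp, e]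

theorem one_mem (i : Fin 3) : D.one ∈ supp (D.a i) ↔ i = 0 := by
  rw [mem_supp, D.a_one i]; split_ifs with h <;> simp [h]

/-- The three possibilities for the pair of an orbit. -/
theorem options (P₀ : PairData D) :
    ∃ P : PairData D, P.σP = 1 ∧ (P = P₀ ∨ P = P₀.swap) ∧
      ((P.σR = -1 ∧ (∀ i, P.P ∈ supp (D.a i)) ∧ ∀ i, P.R ∈ supp (D.a i) ↔ i = 0) ∨
        ((∀ i, P.P ∈ supp (D.a i) ↔ i ≠ 0) ∧ ∀ i, P.R ∉ supp (D.a i)) ∨
        (P.σR = 1 ∧ (∀ i, P.P ∈ supp (D.a i) ↔ i = 1) ∧ ∀ i, P.R ∈ supp (D.a i) ↔ i = 2)) := by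
  have hm : ∀ i x, (x ∈ supp (D.a i) ↔ D.a i x = 1) := fun i x => by
    rcases N.bin i x with e | e <;> simp [mem_supp, e]
  have h0 := P₀.a_rel 0
  have h1 := P₀.a_rel 1
  have h2 := P₀.a_rel 2
  simp at h0 h1 h2
  have b : ∀ i x, 0 ≤ D.a i x ∧ D.a i x ≤ 1 := fun i x => by
    rcases N.bin i x with e | e <;> simp [e]
  have := b 0 P₀.P; have := b 0 P₀.R; have := b 1 P₀.P; have := b 1 P₀.R
  have := b 2 P₀.P; have := b 2 P₀.R
  rcases mul_self_eq_one_iff.1 P₀.sqP with hP | hP <;>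
    rcases mul_self_eq_one_iff.1 P₀.sqR with hR | hR <;> rw [hP, hR] at h0 h1 h2
  · -- equal signs
    rcases (by omega : (D.a 1 P₀.P = 1 ∧ D.a 2 P₀.P = 1) ∨ (D.a 1 P₀.R = 1 ∧ D.a 2 P₀.R = 1) ∨
        (D.a 1 P₀.P = 1 ∧ D.a 2 P₀.R = 1) ∨ (D.a 1 P₀.R = 1 ∧ D.a 2 P₀.P = 1)) with h | h | h | h
    · exact ⟨P₀, hP, Or.inl rfl, Or.inr (Or.inl ⟨fun i => by fin_cases i <;> simp [hm] <;> omega,
        fun i => by fin_cases i <;> simp [hm] <;> omega⟩)⟩
    · exact ⟨P₀.swap, hR, Or.inr rfl, Or.inr (Or.inl ⟨fun i => by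
        fin_cases i <;> simp [PairData.swap, hm] <;> omega,
        fun i => by fin_cases i <;> simp [PairData.swap, hm] <;> omega⟩)⟩
    · exact ⟨P₀, hP, Or.inl rfl, Or.inr (Or.inr ⟨hR, fun i => by fin_cases i <;> simp [hm] <;> omega,
        fun i => by fin_cases i <;> simp [hm] <;> omega⟩)⟩
    · exact ⟨P₀.swap, hR, Or.inr rfl, Or.inr (Or.inr ⟨hP, fun i => by
        fin_cases i <;> simp [PairData.swap, hm] <;> omega,
        fun i => by fin_cases i <;> simp [PairData.swap, hm] <;> omega⟩)⟩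
  · by_cases h : D.a 0 P₀.P = 1
    · exact ⟨P₀, hP, Or.inl rfl, Or.inl ⟨hR, fun i => by fin_cases i <;> simp [hm] <;> omega,
        fun i => by fin_cases i <;> simp [hm] <;> omega⟩⟩
    · exact ⟨P₀, hP, Or.inl rfl, Or.inr (Or.inl ⟨fun i => by fin_cases i <;> simp [hm] <;> omega,
        fun i => by fin_cases i <;> simp [hm] <;> omega⟩)⟩
  · by_cases h : D.a 0 P₀.R = 1
    · exact ⟨P₀.swap, hR, Or.inr rfl, Or.inl ⟨hP, fun i => by
        fin_cases i <;> simp [PairData.swap, hm] <;> omega,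
        fun i => by fin_cases i <;> simp [PairData.swap, hm] <;> omega⟩⟩
    · exact ⟨P₀.swap, hR, Or.inr rfl, Or.inr (Or.inl ⟨fun i => by
        fin_cases i <;> simp [PairData.swap, hm] <;> omega,
        fun i => by fin_cases i <;> simp [PairData.swap, hm] <;> omega⟩)⟩
  · omega

/-- Number of rows in all three columns, and of rows in one column only. -/
theorem counts :
    (supp (D.a 0) ∩ supp (D.a 1) ∩ supp (D.a 2)).card =
        (supp (D.a 0) \ (supp (D.a 1) ∪ supp (D.a 2))).card ∧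
      (supp (D.a 0) ∩ supp (D.a 1) ∩ supp (D.a 2)).card =
        (supp (D.a 1) \ (supp (D.a 0) ∪ supp (D.a 2))).card ∧
      (supp (D.a 0) ∩ supp (D.a 1) ∩ supp (D.a 2)).card =
        (supp (D.a 2) \ (supp (D.a 0) ∪ supp (D.a 1))).card ∧
      1 ≤ (supp (D.a 0) ∩ supp (D.a 1) ∩ supp (D.a 2)).card ∧
      (supp (D.a 0) ∩ supp (D.a 1) ∩ supp (D.a 2)).card ≤ 2 := by
  have key : ∀ i j l : Fin 3, i ≠ j → i ≠ l →
      (supp (D.a i) ∩ supp (D.a j) ∩ supp (D.a l)).card =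
        (supp (D.a i) \ (supp (D.a j) ∪ supp (D.a l))).card := by
    intro i j l hij hil
    have h1 := card_sdiff_add_card_inter (supp (D.a i)) (supp (D.a j) ∪ supp (D.a l))
    rw [inter_union_distrib_left, N.card i] at h1
    have h2 := card_union_add_card_inter (supp (D.a i) ∩ supp (D.a j))
      (supp (D.a i) ∩ supp (D.a l))
    rw [N.card_inter hij, N.card_inter hil, ← inter_inter_distrib_left, ← inter_assoc] at h2
    omega
  have k0 := key 0 1 2 (by decide) (by decide)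
  have k1 := key 1 0 2 (by decide) (by decide)
  have k2 := key 2 0 1 (by decide) (by decide)
  rw [inter_comm (supp (D.a 1)) (supp (D.a 0))] at k1
  rw [show supp (D.a 2) ∩ supp (D.a 0) ∩ supp (D.a 1) =
    supp (D.a 0) ∩ supp (D.a 1) ∩ supp (D.a 2) by rw [inter_assoc]; exact inter_comm _ _] at k2
  refine ⟨k0, k1, k2, ?_, (card_le_card inter_subset_left).trans (N.card_inter (by decide)).le⟩
  rw [k0]
  exact card_pos.2 ⟨D.one, by simp [N.one_mem]⟩

end Normal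

/-- The eight rows: `1, A` in the first column only, `B, B'` in the second, `C, C'` in the third,
`S, T` in all three. -/
structure Eight (D : Cols ι J W) where
  A : ι
  B : ι
  B' : ι
  C : ι
  C' : ι
  S : ι
  T : ι
  neA : D.one ≠ A
  neB : B ≠ B'
  neC : C ≠ C'
  neS : S ≠ T
  suppA : supp (D.a 0) = {D.one, A, S, T}
  suppB : supp (D.a 1) = {B, B', S, T}
  suppC : supp (D.a 2) = {C, C', S, T}
  nodA : [D.one, A, S, T].Nodup
  nodB : [B, B', S, T].Nodup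
  nodC : [C, C', S, T].Nodup
  outA : A ∉ supp (D.a 1) ∧ A ∉ supp (D.a 2)
  outB : (B ∉ supp (D.a 0) ∧ B ∉ supp (D.a 2)) ∧ (B' ∉ supp (D.a 0) ∧ B' ∉ supp (D.a 2))
  outC : (C ∉ supp (D.a 0) ∧ C ∉ supp (D.a 1)) ∧ (C' ∉ supp (D.a 0) ∧ C' ∉ supp (D.a 1))

namespace Normal

variable {D : Cols ι J W} (N : Normal D)
include N

theorem eight (h2 : (supp (D.a 0) ∩ supp (D.a 1) ∩ supp (D.a 2)).card = 2) :
    Nonempty (Eight D) := by
  obtain ⟨k0, k1, k2, -, -⟩ := N.counts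
  obtain ⟨S, T, hST, hT⟩ := card_eq_two.1 h2
  have hone : D.one ∈ supp (D.a 0) \ (supp (D.a 1) ∪ supp (D.a 2)) := by simp [N.one_mem]
  obtain ⟨A, hA⟩ := card_eq_one.1 (show
      ((supp (D.a 0) \ (supp (D.a 1) ∪ supp (D.a 2))).erase D.one).card = 1 by
    rw [card_erase_of_mem hone, ← k0, h2])
  obtain ⟨B, B', hB, hBB⟩ := card_eq_two.1 (k1.symm.trans h2)
  obtain ⟨C, C', hC, hCC⟩ := card_eq_two.1 (k2.symm.trans h2)
  have mA : A ∈ (supp (D.a 0) \ (supp (D.a 1) ∪ supp (D.a 2))).erase D.one :=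
    hA ▸ mem_singleton_self A
  simp only [mem_erase, mem_sdiff, mem_union, not_or] at mA
  have mB : B ∈ supp (D.a 1) \ (supp (D.a 0) ∪ supp (D.a 2)) := hBB ▸ by simp
  have mB' : B' ∈ supp (D.a 1) \ (supp (D.a 0) ∪ supp (D.a 2)) := hBB ▸ by simp
  have mC : C ∈ supp (D.a 2) \ (supp (D.a 0) ∪ supp (D.a 1)) := hCC ▸ by simp
  have mC' : C' ∈ supp (D.a 2) \ (supp (D.a 0) ∪ supp (D.a 1)) := hCC ▸ by simp
  have mS : S ∈ supp (D.a 0) ∩ supp (D.a 1) ∩ supp (D.a 2) := hT ▸ by simp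
  have mT : T ∈ supp (D.a 0) ∩ supp (D.a 1) ∩ supp (D.a 2) := hT ▸ by simp
  simp only [mem_sdiff, mem_union, not_or] at mB mB' mC mC'
  simp only [mem_inter] at mS mT
  have h1 := N.one_mem
  have e1 : D.one ∉ supp (D.a 1) := by simp [h1]
  have hnA : [D.one, A, S, T].Nodup := by
    simp only [List.nodup_cons, List.mem_cons, not_or, List.not_mem_nil, not_false_iff, and_true,
      List.nodup_nil]
    exact ⟨⟨mA.1.symm, fun e => e1 (e ▸ mS.1.2), fun e => e1 (e ▸ mT.1.2)⟩,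
      ⟨fun e => mA.2.2.1 (e ▸ mS.1.2), fun e => mA.2.2.1 (e ▸ mT.1.2)⟩, hST⟩
  have hnB : [B, B', S, T].Nodup := by
    simp only [List.nodup_cons, List.mem_cons, not_or, List.not_mem_nil, not_false_iff, and_true,
      List.nodup_nil]
    exact ⟨⟨hB, fun e => mB.2.2 (e ▸ mS.2), fun e => mB.2.2 (e ▸ mT.2)⟩,
      ⟨fun e => mB'.2.2 (e ▸ mS.2), fun e => mB'.2.2 (e ▸ mT.2)⟩, hST⟩
  have hnC : [C, C', S, T].Nodup := by
    simp only [List.nodup_cons, List.mem_cons, not_or, List.not_mem_nil, not_false_iff, and_true,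
      List.nodup_nil]
    exact ⟨⟨hC, fun e => mC.2.2 (e ▸ mS.1.2), fun e => mC.2.2 (e ▸ mT.1.2)⟩,
      ⟨fun e => mC'.2.2 (e ▸ mS.1.2), fun e => mC'.2.2 (e ▸ mT.1.2)⟩, hST⟩
  have four : ∀ {i : Fin 3} {p q r s : ι}, [p, q, r, s].Nodup → p ∈ supp (D.a i) →
      q ∈ supp (D.a i) → r ∈ supp (D.a i) → s ∈ supp (D.a i) →
      supp (D.a i) = {p, q, r, s} := by
    intro i p q r s hn hp hq hr hs
    refine (eq_of_subset_of_card_le (by simp [insert_subset_iff, hp, hq, hr, hs]) ?_).symm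
    have := List.toFinset_card_of_nodup hn
    simp at this
    rw [N.card i, this]
  exact ⟨⟨A, B, B', C, C', S, T, mA.1.symm, hB, hC, hST,
    four hnA ((h1 0).2 rfl) mA.2.1 mS.1.1 mT.1.1,
    four hnB mB.1 mB'.1 mS.1.2 mT.1.2, four hnC mC.1 mC'.1 mS.2 mT.2, hnA, hnB, hnC,
    mA.2.2, ⟨mB.2, mB'.2⟩, ⟨mC.2, mC'.2⟩⟩⟩

end Normal

end Cfsg.Agent.H64.Ward
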