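import Cfsg.Agent.H64.Ward.Columns

/-!
# Three vectors of norm three meeting pairwise in two places
-/

set_option autoImplicit false
set_option linter.unusedSectionVars false

namespace Cfsg.Agent.H64.Ward

open Finset

variable {ι : Type*} [Fintype ι] [DecidableEq ι]

theorem card_two_cases {S : Finset ι} (h : S.card = 3) {T : Finset ι} (hT : T ⊆ S)
    (h2 : T.card = 2) : ∃ x y e, x ≠ y ∧ e ∉ T ∧ T = {x, y} ∧ S = {x, y, e} := by
  obtain ⟨x, y, hxy, rfl⟩ := card_eq_two.1 h2
  obtain ⟨e, he⟩ := card_eq_one.1 (show (S \ {x, y}).card = 1 by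
    rw [card_sdiff_of_subset hT, h, h2])
  have hm : e ∈ S \ {x, y} := he ▸ mem_singleton_self e
  rw [mem_sdiff] at hm
  refine ⟨x, y, e, hxy, hm.2, rfl, ?_⟩
  rw [← sdiff_union_of_subset hT, he]
  ext z; simp; tauto

/-- After a change of signs the vectors are indicators of `{x, y, E j}`, or of the three-element
subsets through one point of a four-element set. -/
theorem triple_shape {one : ι} {H : Fin 3 → ι → ℤ} (hsq : ∀ j, dot (H j) (H j) = 3)
    (hdot : ∀ i j, i ≠ j → dot (H i) (H j) = 2) (h1 : ∀ j, H j one = 0) :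
    ∃ s : ι → ℤ, IsSign one s ∧
      ((∃ x y, ∃ E : Fin 3 → ι, x ≠ y ∧ Function.Injective E ∧ (∀ j, E j ≠ x ∧ E j ≠ y) ∧
          ∀ j z, (s * H j) z = if z ∈ ({x, y, E j} : Finset ι) then 1 else 0) ∨
        ∃ x y e f, [x, y, e, f].Nodup ∧
          (∀ z, (s * H 0) z = if z ∈ ({x, y, e} : Finset ι) then 1 else 0) ∧
          (∀ z, (s * H 1) z = if z ∈ ({x, y, f} : Finset ι) then 1 else 0) ∧
          ∀ z, (s * H 2) z = if z ∈ ({x, e, f} : Finset ι) then 1 else 0) := by
  have hv : ∀ j z, H j z = 0 ∨ H j z = 1 ∨ H j z = -1 := fun j => abs_le_one (hsq j).le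
  have hc : ∀ j, (supp (H j)).card = 3 := fun j => by
    have := card_supp (hv j); rw [hsq j] at this; exact_mod_cast this
  have hp : ∀ i j, i ≠ j → (supp (H i) ∩ supp (H j)).card = 2 ∧
      ∀ z, H i z ≠ 0 → H j z ≠ 0 → H i z = H j z := fun i j hij =>
    agree_of_dot_two (hv i) (hv j)
      (by exact_mod_cast (card_le_card inter_subset_left).trans (hc i).le) (hdot i j hij)
  let s : ι → ℤ := fun z =>
    if H 0 z ≠ 0 then H 0 z else if H 1 z ≠ 0 then H 1 z else if H 2 z ≠ 0 then H 2 z else 1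
  have hs : IsSign one s := by
    refine ⟨fun z => ?_, by simp [s, h1]⟩
    simp only [s]
    split_ifs with a b c
    · rcases hv 0 z with e | e | e <;> simp_all
    · rcases hv 1 z with e | e | e <;> simp_all
    · rcases hv 2 z with e | e | e <;> simp_all
    · rfl
  have hind : ∀ j z, (s * H j) z = if z ∈ supp (H j) then 1 else 0 := by
    intro j z
    by_cases hz : H j z = 0
    · simp [hz, mem_supp]
    rw [if_pos (mem_supp.2 hz), Pi.mul_apply]
    have hsz : s z = H j z := by
      simp only [s]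
      split_ifs with a b c
      · rcases eq_or_ne (0 : Fin 3) j with rfl | hj
        · rfl
        · exact (hp 0 j hj).2 z a hz
      · rcases eq_or_ne (1 : Fin 3) j with rfl | hj
        · rfl
        · exact (hp 1 j hj).2 z b hz
      · rcases eq_or_ne (2 : Fin 3) j with rfl | hj
        · rfl
        · exact (hp 2 j hj).2 z c hz
      · fin_cases j <;> simp_all
    rw [hsz]
    rcases hv j z with e | e | e <;> simp_all
  obtain ⟨x, y, e, hxy, heT, hT, hS0⟩ :=
    card_two_cases (hc 0) inter_subset_left (hp 0 1 (by decide)).1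
  obtain ⟨f, hf⟩ := card_eq_one.1 (show (supp (H 1) \ {x, y}).card = 1 by
    rw [card_sdiff_of_subset (hT ▸ inter_subset_right), hc 1, card_pair hxy])
  have hfm : f ∈ supp (H 1) \ {x, y} := hf ▸ mem_singleton_self f
  rw [mem_sdiff] at hfm
  have hS1 : supp (H 1) = {x, y, f} := by
    rw [← sdiff_union_of_subset (hT ▸ inter_subset_right : ({x, y} : Finset ι) ⊆ supp (H 1)), hf]
    ext z; simp; tauto
  have hef : e ≠ f := fun he => heT <| mem_inter.2
    ⟨by rw [hS0]; simp, by rw [he]; exact hfm.1⟩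
  have hex : e ≠ x ∧ e ≠ y := by rw [hT] at heT; simpa using heT
  have hfx : f ≠ x ∧ f ≠ y := by simpa using hfm.2
  have h02 := (hp 0 2 (by decide)).1
  have h12 := (hp 1 2 (by decide)).1
  rw [hS0] at h02
  rw [hS1] at h12
  have c0 : (if x ∈ supp (H 2) then 1 else 0) + (if y ∈ supp (H 2) then 1 else 0) +
      (if e ∈ supp (H 2) then 1 else 0) = 2 := by
    refine Eq.trans ?_ h02
    by_cases p1 : x ∈ supp (H 2) <;> by_cases p2 : y ∈ supp (H 2) <;>
      by_cases p3 : e ∈ supp (H 2) <;>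
      simp [p1, p2, p3, insert_inter_of_mem, insert_inter_of_notMem, singleton_inter_of_mem,
        singleton_inter_of_notMem, hxy, hex.1.symm, hex.2.symm]
  have c1 : (if x ∈ supp (H 2) then 1 else 0) + (if y ∈ supp (H 2) then 1 else 0) +
      (if f ∈ supp (H 2) then 1 else 0) = 2 := by
    refine Eq.trans ?_ h12
    by_cases p1 : x ∈ supp (H 2) <;> by_cases p2 : y ∈ supp (H 2) <;>
      by_cases p3 : f ∈ supp (H 2) <;>
      simp [p1, p2, p3, insert_inter_of_mem, insert_inter_of_notMem, singleton_inter_of_mem,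
        singleton_inter_of_notMem, hxy, hfx.1.symm, hfx.2.symm]
  refine ⟨s, hs, ?_⟩
  have mk : ∀ j (A : Finset ι), supp (H j) = A →
      ∀ z, (s * H j) z = if z ∈ A then 1 else 0 := by
    intro j A hA z; rw [hind j z, hA]
  by_cases he : e ∈ supp (H 2)
  · -- four points
    by_cases hf' : f ∈ supp (H 2)
    · right
      rcases (by by_cases hx : x ∈ supp (H 2) <;> by_cases hy : y ∈ supp (H 2) <;>
        simp [hx, hy, he] at c0 ⊢ :
          (x ∈ supp (H 2) ∧ y ∉ supp (H 2)) ∨ (x ∉ supp (H 2) ∧ y ∈ supp (H 2))) with h | h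
      · refine ⟨x, y, e, f, ?_, mk 0 _ hS0, mk 1 _ hS1, mk 2 _ ?_⟩
        · simp [hxy, hex.1.symm, hex.2.symm, hfx.1.symm, hfx.2.symm, hef]
        · exact (eq_of_subset_of_card_le (by simp [insert_subset_iff, h.1, he, hf'])
            (by simp [hc 2, hef, hex.1.symm, hfx.1.symm])).symm
      · refine ⟨y, x, e, f, ?_, mk 0 _ ?_, mk 1 _ ?_, mk 2 _ ?_⟩
        · simp [hxy.symm, hex.1.symm, hex.2.symm, hfx.1.symm, hfx.2.symm, hef]
        · rw [hS0, Finset.insert_comm]
        · rw [hS1, Finset.insert_comm]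
        · exact (eq_of_subset_of_card_le (by simp [insert_subset_iff, h.2, he, hf'])
            (by simp [hc 2, hef, hex.2.symm, hfx.2.symm])).symm
    · exfalso
      by_cases hx : x ∈ supp (H 2) <;> by_cases hy : y ∈ supp (H 2) <;>
        simp [hx, hy, he, hf'] at c0 c1
  · left
    have hf' : f ∉ supp (H 2) := by
      intro hf'
      by_cases hx : x ∈ supp (H 2) <;> by_cases hy : y ∈ supp (H 2) <;>
        simp [hx, hy, he, hf'] at c0 c1
    have hxy2 : x ∈ supp (H 2) ∧ y ∈ supp (H 2) := by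
      by_cases hx : x ∈ supp (H 2) <;> by_cases hy : y ∈ supp (H 2) <;>
        simp [hx, hy, he, hf'] at c0 ⊢
    have hsub : ({x, y} : Finset ι) ⊆ supp (H 2) := by simp [insert_subset_iff, hxy2]
    obtain ⟨g, hg⟩ := card_eq_one.1 (show (supp (H 2) \ {x, y}).card = 1 by
      rw [card_sdiff_of_subset hsub, hc 2, card_pair hxy])
    have hgm : g ∈ supp (H 2) \ {x, y} := hg ▸ mem_singleton_self g
    rw [mem_sdiff] at hgm
    have hS2 : supp (H 2) = {x, y, g} := by
      rw [← sdiff_union_of_subset hsub, hg]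
      ext z; simp; tauto
    have hge : g ≠ e := fun h => he (h ▸ hgm.1)
    have hgf : g ≠ f := fun h => hf' (h ▸ hgm.1)
    have hgx : g ≠ x ∧ g ≠ y := by simpa using hgm.2
    refine ⟨x, y, ![e, f, g], hxy, ?_, ?_, ?_⟩
    · intro i j hij
      fin_cases i <;> fin_cases j <;>
        simp [hef, hef.symm, hge, hge.symm, hgf, hgf.symm] at hij ⊢
    · intro j; fin_cases j <;> simp [hex, hfx, hgx]
    · intro j; fin_cases j
      · exact mk 0 _ hS0
      · exact mk 1 _ hS1
      · exact mk 2 _ hS2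

end Cfsg.Agent.H64.Ward
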